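import Cfsg.Agent.H802.FusEss
import Cfsg.Agent.H744.EssRad
import Cfsg.Agent.H783.ChainStab
import Cfsg.Agent.H647.HM.Swap_m3
import Cfsg.Agent.FastGrp
import Cfsg.Agent.Prune
set_option linter.all false
prune_inst 0x7ff0fefbaff8bddfdfff7fffffdfdffc3bd4dfffffffff4bfffcebffffff230e3de76bad9df0d8ff5ff7e2b6b0b87853ff7eeeffef6bdc7ffffd5ff45ffbee0ff5f7bd8951d68c340fbe0fff63f07fce7f3fffffffffffffffffffffffffffbeffffffffffff
open scoped Cfsg.Agent.FastGrp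

-- part: H456/HM/Prin
section
/-!
# Chains in essential subgroups; two involutions (helper456)

* `mem_of_chain3` : an element of `N_S(R)` acting trivially on the factors of an `Aut_F(R)`-invariant chain
  `1 ≤ A ≤ B ≤ R` of an essential subgroup `R` lies in `R`;
* `ess_odd` : the strongly embedded subgroup.
-/

set_option autoImplicit false

namespace Cfsg.Agent.H456.HM

open Cfsg Cfsg.FusionSystem Cfsg.Agent.H802

section chain

variable {R : Type*} [Group R]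

/-- the stabilizer of the chain `1 ≤ A ≤ B ≤ R` in a group `X` of automorphisms -/
def chain3 (X : Subgroup (MulAut R)) (A B : Subgroup R) (hA : ∀ α ∈ X, ∀ a ∈ A, α a ∈ A)
    (hB : ∀ α ∈ X, ∀ b ∈ B, α b ∈ B) (_hAB : A ≤ B) : Subgroup X where
  carrier := {α | (∀ r : R, r⁻¹ * (α : MulAut R) r ∈ B) ∧ (∀ b ∈ B, b⁻¹ * (α : MulAut R) b ∈ A) ∧
    ∀ a ∈ A, (α : MulAut R) a = a}
  one_mem' := ⟨fun r => by simp only [_root_.OneMemClass.coe_one, _root_.MulAut.one_apply, _root_.inv_mul_cancel, _root_.OneMemClass.one_mem], fun b _ => by simp only [_root_.OneMemClass.coe_one, _root_.MulAut.one_apply, _root_.inv_mul_cancel, _root_.OneMemClass.one_mem], fun a _ => rfl⟩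
  mul_mem' := by
    rintro α β ⟨h1, h2, h3⟩ ⟨h4, h5, h6⟩
    refine ⟨fun r => ?_, fun b hb => ?_, fun a ha => ?_⟩
    · have e : r⁻¹ * ((α * β : X) : MulAut R) r = (r⁻¹ * (α : MulAut R) r) * (α : MulAut R) (r⁻¹ * (β : MulAut R) r) := by
        rw [map_mul, map_inv, Subgroup.coe_mul, MulAut.mul_apply]
        group
      rw [e]
      exact B.mul_mem (h1 r) (hB α α.2 _ (h4 r))
    · have e : b⁻¹ * ((α * β : X) : MulAut R) b = (b⁻¹ * (α : MulAut R) b) * (α : MulAut R) (b⁻¹ * (β : MulAut R) b) := by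
        rw [map_mul, map_inv, Subgroup.coe_mul, MulAut.mul_apply]
        group
      rw [e]
      exact A.mul_mem (h2 b hb) (hA α α.2 _ (h5 b hb))
    · rw [Subgroup.coe_mul, MulAut.mul_apply, h6 a ha, h3 a ha]
  inv_mem' := by
    rintro α ⟨h1, h2, h3⟩
    refine ⟨fun r => ?_, fun b hb => ?_, fun a ha => ?_⟩
    · have e : r⁻¹ * ((α⁻¹ : X) : MulAut R) r = ((α⁻¹ : X) : MulAut R) ((r⁻¹ * (α : MulAut R) r)⁻¹) := by
        rw [mul_inv_rev, inv_inv, map_mul, map_inv, Subgroup.coe_inv, MulAut.inv_apply_self]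
      rw [e]
      exact hB _ (α⁻¹).2 _ (B.inv_mem (h1 r))
    · have e : b⁻¹ * ((α⁻¹ : X) : MulAut R) b = ((α⁻¹ : X) : MulAut R) ((b⁻¹ * (α : MulAut R) b)⁻¹) := by
        rw [mul_inv_rev, inv_inv, map_mul, map_inv, Subgroup.coe_inv, MulAut.inv_apply_self]
      rw [e]
      exact hA _ (α⁻¹).2 _ (A.inv_mem (h2 b hb))
    · rw [Subgroup.coe_inv, MulAut.inv_apply]
      exact (MulEquiv.symm_apply_eq _).2 (h3 a ha).symm

theorem chain3_normal (X : Subgroup (MulAut R)) (A B : Subgroup R) (hA : ∀ α ∈ X, ∀ a ∈ A, α a ∈ A)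
    (hB : ∀ α ∈ X, ∀ b ∈ B, α b ∈ B) (hAB : A ≤ B) : (chain3 X A B hA hB hAB).Normal := by
  refine ⟨?_⟩
  rintro α ⟨h1, h2, h3⟩ β
  have key : ∀ r : R, r⁻¹ * ((β * α * β⁻¹ : X) : MulAut R) r =
      (β : MulAut R) (((β⁻¹ : X) : MulAut R) r)⁻¹ * (β : MulAut R) ((α : MulAut R) (((β⁻¹ : X) : MulAut R) r)) := by
    intro r
    rw [map_inv, Subgroup.coe_inv, MulAut.apply_inv_self]
    rfl
  refine ⟨fun r => ?_, fun b hb => ?_, fun a ha => ?_⟩
  · rw [key, ← map_mul]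
    exact hB β β.2 _ (h1 _)
  · rw [key, ← map_mul]
    exact hA β β.2 _ (h2 _ (hB _ (β⁻¹).2 b hb))
  · have h4 : ((β * α * β⁻¹ : X) : MulAut R) a = (β : MulAut R) ((α : MulAut R) (((β⁻¹ : X) : MulAut R) a)) := rfl
    rw [h4, h3 _ (hA _ (β⁻¹).2 a ha), Subgroup.coe_inv, MulAut.apply_inv_self]

theorem isPGroup_chain3 {p : ℕ} [Fact p.Prime] [Finite R] (hR : IsPGroup p R) (X : Subgroup (MulAut R))
    (A B : Subgroup R) (hA : ∀ α ∈ X, ∀ a ∈ A, α a ∈ A)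
    (hB : ∀ α ∈ X, ∀ b ∈ B, α b ∈ B) (hAB : A ≤ B) : IsPGroup p (chain3 X A B hA hB hAB) := by
  rintro ⟨α, h1, h2, h3⟩
  obtain ⟨n, hn⟩ := IsPGroup.iff_card.1 hR
  refine ⟨n + n, Subtype.ext (Subtype.ext (MulEquiv.ext fun x => ?_))⟩
  show (((α : MulAut R) ^ p ^ (n + n))) x = x
  -- on `B`
  have hpB : ∀ (k : ℕ), ∀ b ∈ B, ((α : MulAut R) ^ k) b = b * (b⁻¹ * (α : MulAut R) b) ^ k := by
    intro k b hb
    induction k with
    | zero => simp
    | succ k ih =>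
      rw [pow_succ', MulAut.mul_apply, ih, map_mul, map_pow, h3 _ (h2 b hb), pow_succ', ← mul_assoc,
        mul_inv_cancel_left]
  have hfix : ∀ b ∈ B, ((α : MulAut R) ^ p ^ n) b = b := by
    intro b hb
    rw [hpB _ b hb, ← hn, pow_card_eq_one', mul_one]
  obtain ⟨β, hβ⟩ : ∃ β : X, β = α ^ p ^ n := ⟨_, rfl⟩
  have hβ' : (β : MulAut R) = (α : MulAut R) ^ p ^ n := by rw [hβ]; rfl
  have hβm : β ∈ chain3 X A B hA hB hAB := by
    rw [hβ]
    exact (chain3 X A B hA hB hAB).pow_mem ⟨h1, h2, h3⟩ _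
  have hst : (β : MulAut R) ∈ Cfsg.Agent.H783.chainStab B :=
    ⟨fun b hb => by rw [hβ']; exact hfix b hb, hβm.1⟩
  rw [pow_add, pow_mul, ← hβ', Cfsg.Agent.H783.chainStab_pow hst, ← hn, pow_card_eq_one', mul_one]

end chain

variable {Ω : Type*} [Group Ω] {S : Subgroup Ω}

theorem ess_le {p : ℕ} {F : FusionSystem S} {R : Subgroup Ω} (hR : F.IsEssential p R) : R ≤ S := hR.1.1

theorem ess_cent {p : ℕ} {F : FusionSystem S} {R : Subgroup Ω} (hR : F.IsEssential p R) {g : Ω} (hg : g ∈ S)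
    (h : ∀ r ∈ R, g * r = r * g) : g ∈ R :=
  hR.1.2 R (isConj_refl F hR.1.1) ⟨hg, Subgroup.mem_centralizer_iff.2 fun r hr => (h r hr).symm⟩

/-- a normal `p`-subgroup of `Aut_F(R)` lies in `Inn R` -/
theorem ess_core {p : ℕ} [Fact p.Prime] [Finite S] {F : FusionSystem S} {R : Subgroup Ω}
    (hR : F.IsEssential p R) (N : Subgroup (F.autGroup R)) (hNn : N.Normal) (hN : IsPGroup p N) :
    ∀ α ∈ N, (α : MulAut R) ∈ Inn R := by
  have hle := ess_le hR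
  have : Finite R := finite_of_le hle
  obtain ⟨-, -, hn, E, hE⟩ := hR
  have h1 := Cfsg.Agent.H744.eq_bot_of_normal_of_stronglyPEmbedded hE
    (hNn.map (QuotientGroup.mk' ((Inn R).subgroupOf (F.autGroup R))) (QuotientGroup.mk'_surjective _)) (hN.map _)
  rw [Subgroup.map_eq_bot_iff, QuotientGroup.ker_mk'] at h1
  exact fun α hα => h1 hα

/-- **Principle (P).** -/
theorem mem_of_chain3 {p : ℕ} [Fact p.Prime] [Finite S] (hS : IsPGroup p S) {F : FusionSystem S} {R : Subgroup Ω}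
    (hR : F.IsEssential p R) (A B : Subgroup Ω) (hAB : A ≤ B) (hBR : B ≤ R)
    (hA : ∀ α ∈ F.autGroup R, ∀ r : R, (r : Ω) ∈ A → ((α r : R) : Ω) ∈ A)
    (hB : ∀ α ∈ F.autGroup R, ∀ r : R, (r : Ω) ∈ B → ((α r : R) : Ω) ∈ B) {g : Ω} (hg : g ∈ S)
    (h1 : ∀ r ∈ R, g * r * g⁻¹ * r⁻¹ ∈ B) (h2 : ∀ b ∈ B, g * b * g⁻¹ * b⁻¹ ∈ A) (h3 : ∀ a ∈ A, g * a = a * g) :
    g ∈ R := by
  have hRS := ess_le hR
  have hfR : Finite R := finite_of_le hRS
  have hnorm : ∀ r ∈ R, g * r * g⁻¹ ∈ R := by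
    intro r hr
    have : g * r * g⁻¹ = (g * r * g⁻¹ * r⁻¹) * r := by group
    rw [this]
    exact R.mul_mem (hBR (h1 r hr)) hr
  have hgN : g ∈ Subgroup.normalizer (R : Set Ω) := by
    have hcj : R.map (MulAut.conj g).toMonoidHom = R := by
      apply Subgroup.eq_of_le_of_card_ge
      · rintro _ ⟨r, hr, rfl⟩
        exact hnorm r hr
      · rw [← Nat.card_congr (R.equivMapOfInjective _ (MulAut.conj g).injective).toEquiv]
    rw [Subgroup.mem_normalizer_iff]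
    intro r
    constructor
    · exact hnorm r
    · intro hr
      rw [← hcj] at hr
      obtain ⟨s, hs, hs'⟩ := hr
      have : s = r := by
        have : g * s * g⁻¹ = g * r * g⁻¹ := hs'
        exact mul_left_cancel (mul_right_cancel this)
      rwa [← this]
  obtain ⟨κ, hκ⟩ := exists_conjAut hgN
  have hκS : κ ∈ autInducedBy S R := conj_mem_autInducedBy hg hκ
  have hκX := autInducedBy_le_autGroup F hRS hκS
  -- `A` and `B` are normal in `R`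
  have hinn : ∀ r : R, (MulAut.conj r : MulAut R) ∈ F.autGroup R := fun r => inn_le_autGroup F hRS ⟨r, rfl⟩
  have nA : ∀ r ∈ R, ∀ a ∈ A, r * a * r⁻¹ ∈ A := fun r hr a ha => hA _ (hinn ⟨r, hr⟩) ⟨a, hBR (hAB ha)⟩ ha
  have nB : ∀ r ∈ R, ∀ a ∈ B, r * a * r⁻¹ ∈ B := fun r hr a ha => hB _ (hinn ⟨r, hr⟩) ⟨a, hBR ha⟩ ha
  set C := chain3 (F.autGroup R) (A.subgroupOf R) (B.subgroupOf R) (fun α hα a ha => hA α hα a ha)
    (fun α hα a ha => hB α hα a ha) (fun a ha => hAB ha) with hC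
  have hCn : C.Normal := chain3_normal _ _ _ _ _ _
  have hCp : IsPGroup p C := isPGroup_chain3 (hS.to_le hRS) _ _ _ _ _ _
  have hκC : (⟨κ, hκX⟩ : F.autGroup R) ∈ C := by
    refine ⟨fun r => ?_, fun b hb => ?_, fun a ha => ?_⟩
    · show ((r⁻¹ * κ r : R) : Ω) ∈ B
      rw [Subgroup.coe_mul, hκ]
      have e : ((r⁻¹ : R) : Ω) * (g * r * g⁻¹) = (r : Ω)⁻¹ * (g * r * g⁻¹ * (r : Ω)⁻¹) * ((r : Ω)⁻¹)⁻¹ := by
        rw [Subgroup.coe_inv]; group
      rw [e]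
      exact nB _ (R.inv_mem r.2) _ (h1 r r.2)
    · show ((b⁻¹ * κ b : R) : Ω) ∈ A
      rw [Subgroup.coe_mul, hκ]
      have e : ((b⁻¹ : R) : Ω) * (g * b * g⁻¹) = (b : Ω)⁻¹ * (g * b * g⁻¹ * (b : Ω)⁻¹) * ((b : Ω)⁻¹)⁻¹ := by
        rw [Subgroup.coe_inv]; group
      rw [e]
      exact nA _ (R.inv_mem b.2) _ (h2 b hb)
    · apply Subtype.ext
      show ((κ a : R) : Ω) = a
      rw [hκ, h3 a ha, mul_inv_cancel_right]
  have h4 := ess_core hR C hCn hCp _ hκC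
  exact mem_of_conj_mem_inn hRS (hR.1.2 R (isConj_refl F hRS)) hg hκ h4

/-- two involutions in different conjugates of a strongly embedded subgroup -/
theorem odd_mul {X : Type*} [Group X] [Finite X] {E : Subgroup X} (hE : EvenType.StrongP.NormIn 2 E) {g : X}
    (hg : g ∉ E) {a b : X} (ha : a ∈ E) (ha1 : a ≠ 1) (ha2 : a * a = 1)
    (hb : b ∈ E.map (MulAut.conj g).toMonoidHom) (hb1 : b ≠ 1) (hb2 : b * b = 1) : Odd (orderOf (a * b)) := by
  have h2 : Fact (Nat.Prime 2) := ⟨Nat.prime_two⟩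
  rw [← Nat.not_even_iff_odd]
  intro hev
  obtain ⟨m, hm⟩ := hev
  have hpos := orderOf_pos (a * b)
  set j := (a * b) ^ m with hj
  have hj2 : j * j = 1 := by rw [hj, ← pow_add, ← hm, pow_orderOf_eq_one]
  have hj1 : j ≠ 1 := by
    intro h
    have h3 := Nat.le_of_dvd (by omega) (orderOf_dvd_of_pow_eq_one h)
    omega
  have hinv : ∀ c d : X, c * c = 1 → d * d = 1 → ∀ k : ℕ, c * (c * d) ^ k * c⁻¹ = ((c * d) ^ k)⁻¹ := by
    intro c d hc hd k
    have h3 : c * (c * d) * c⁻¹ = (c * d)⁻¹ := by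
      rw [mul_inv_rev, ← mul_assoc, hc, one_mul, inv_eq_of_mul_eq_one_left hd]
    have h4 : c * (c * d) ^ k * c⁻¹ = (c * (c * d) * c⁻¹) ^ k := by rw [conj_pow]
    rw [h4, h3, inv_pow]
  have hjinv : j⁻¹ = j := inv_eq_of_mul_eq_one_left hj2
  have hja : a * j = j * a := by
    have h3 := hinv a b ha2 hb2 m
    rw [← hj, hjinv] at h3
    calc a * j = a * j * a⁻¹ * a := by group
      _ = j * a := by rw [h3]
  have hjb : b * j = j * b := by
    -- `j = (ab)^m = ((ba)^m)⁻¹`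
    have h3 : (b * a) ^ m = j⁻¹ := by
      rw [hj, ← inv_pow, mul_inv_rev, inv_eq_of_mul_eq_one_left ha2, inv_eq_of_mul_eq_one_left hb2]
    have h4 := hinv b a hb2 ha2 m
    rw [h3, hjinv, hjinv] at h4
    calc b * j = b * j * b⁻¹ * b := by group
      _ = j * b := by rw [h4]
  have hmem : ∀ (Y : Subgroup X), EvenType.StrongP.NormIn 2 Y → ∀ c ∈ Y, c ≠ 1 → c * c = 1 → c * j = j * c → j ∈ Y := by
    intro Y hY c hc hc1 hc2 hcj
    have h3 : IsPGroup 2 (Subgroup.zpowers c) := IsPGroup.of_card (n := 1) (by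
      rw [Nat.card_zpowers, pow_one]
      exact orderOf_eq_prime (by rw [pow_two, hc2]) hc1)
    refine hY _ h3 (by rwa [Subgroup.zpowers_le]) (by rwa [Ne, Subgroup.zpowers_eq_bot]) ?_
    rw [Subgroup.mem_normalizer_iff]
    intro y
    have h4 : ∀ y ∈ Subgroup.zpowers c, j * y * j⁻¹ = y := by
      rintro _ ⟨k, rfl⟩
      have h5 : Commute j (c ^ k) := (show Commute j c from hcj.symm).zpow_right k
      show j * c ^ k * j⁻¹ = c ^ k
      rw [h5.eq, mul_inv_cancel_right]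
    constructor
    · intro hy
      rw [h4 y hy]
      exact hy
    · intro hy
      have h5 := h4 _ hy
      have h6 : j * y * j⁻¹ = y := by
        have h7 : j * (j * y * j⁻¹) * j⁻¹ = j * y * j⁻¹ := h5
        have h8 := mul_right_cancel h7
        have h9 := mul_left_cancel h8
        exact h9
      rwa [h6] at hy
  have h3 : j ∈ E ⊓ E.map (MulAut.conj g).toMonoidHom :=
    ⟨hmem E hE a ha ha1 ha2 hja, hmem _ (hE.conj g) b hb hb1 hb2 hjb⟩
  apply hE.inter hg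
  have h4 : orderOf (⟨j, h3⟩ : ↥(E ⊓ E.map (MulAut.conj g).toMonoidHom)) = 2 := by
    rw [Subgroup.orderOf_mk]
    exact orderOf_eq_prime (by rw [pow_two, hj2]) hj1
  rw [← h4]
  exact orderOf_dvd_natCard _

/-- **The strongly embedded subgroup of an essential automizer.** -/
theorem ess_odd [Finite S] (hS : IsPGroup 2 S) {F : FusionSystem S} (hF : F.IsSaturated 2) {Q : Subgroup Ω}
    (hQ : F.IsEssential 2 Q) :
    ∃ M : Subgroup (MulAut Q), M ≤ F.autGroup Q ∧ M ≠ F.autGroup Q ∧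
      ∀ α ∈ F.autGroup Q, α ∉ M → ∀ τ ∈ autInducedBy S Q, ∀ τ' ∈ autInducedBy S Q, τ ∉ Inn Q → τ' ∉ Inn Q →
        τ * τ ∈ Inn Q → τ' * τ' ∈ Inn Q → ∃ n : ℕ, Odd n ∧ (τ * (α * τ' * α⁻¹)) ^ n ∈ Inn Q := by
  have h2 : Fact (Nat.Prime 2) := ⟨Nat.prime_two⟩
  obtain ⟨hQc, hQn, hnormal, E, hE⟩ := hQ
  have hQS := hQn.1
  have hfinQ : Finite Q := finite_of_le hQS
  set A := F.autGroup Q with hA
  obtain ⟨R, hR⟩ : ∃ R : Sylow 2 A, (R : Subgroup A) = (autInducedBy S Q).subgroupOf A :=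
    (isFullyAutomized_of_isFullyNormalized hS hF hQn).2
  set I := (Inn Q).subgroupOf A with hI
  set π : A →* A ⧸ I := QuotientGroup.mk' I with hπ
  have hπs : Function.Surjective π := QuotientGroup.mk'_surjective I
  have hker : ∀ a : A, π a = 1 ↔ (a : MulAut Q) ∈ Inn Q := by
    intro a
    rw [hπ, QuotientGroup.mk'_apply, QuotientGroup.eq_one_iff, hI, Subgroup.mem_subgroupOf]
  set P : Sylow 2 (A ⧸ I) := R.mapSurjective hπs with hP
  obtain ⟨hdvd, htop, P₀, hP₀⟩ := hE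
  have hP₀E : (P₀ : Subgroup (A ⧸ I)) ≤ E := EvenType.StrongP.sylow_le hdvd hP₀
  have hN₀ := EvenType.StrongP.normIn_of_core hdvd hP₀
  obtain ⟨b, hb⟩ := MulAction.exists_smul_eq (A ⧸ I) P₀ P
  set E₁ := E.map (MulAut.conj b).toMonoidHom with hE₁
  have hN₁ : EvenType.StrongP.NormIn 2 E₁ := hN₀.conj b
  have hPE : (P : Subgroup (A ⧸ I)) ≤ E₁ := by
    rw [← hb, Sylow.coe_subgroup_smul]
    rintro _ ⟨x, hx, rfl⟩
    exact ⟨x, hP₀E hx, rfl⟩
  have hE₁top : E₁ ≠ ⊤ := by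
    intro h
    apply htop
    rw [eq_top_iff]
    intro y _
    have h1 : b * y * b⁻¹ ∈ E₁ := by rw [h]; exact Subgroup.mem_top _
    rw [hE₁, EvenType.StrongP.mem_map_conj] at h1
    have e : b⁻¹ * (b * y * b⁻¹) * b = y := by group
    rwa [e] at h1
  have hmemP : ∀ (γ : MulAut Q) (_ : γ ∈ autInducedBy S Q) (hγA : γ ∈ A),
      π ⟨γ, hγA⟩ ∈ (P : Subgroup (A ⧸ I)) := by
    intro γ hγ hγA
    have : π ⟨γ, hγA⟩ ∈ (R : Subgroup A).map π := ⟨⟨γ, hγA⟩, by rw [hR]; exact hγ, rfl⟩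
    exact this
  refine ⟨(E₁.comap π).map A.subtype, ?_, ?_, ?_⟩
  · rintro _ ⟨a, -, rfl⟩
    exact a.2
  · intro h
    apply hE₁top
    rw [eq_top_iff]
    intro y _
    obtain ⟨a, rfl⟩ := hπs y
    have h1 : (a : MulAut Q) ∈ (E₁.comap π).map A.subtype := by rw [h]; exact a.2
    obtain ⟨a', ha', hae⟩ := h1
    have : a' = a := Subtype.ext hae
    rw [← this]
    exact ha'
  · intro α hα hαM τ hτ τ' hτ' hτ1 hτ'1 hτ2 hτ'2
    have hτA := autInducedBy_le_autGroup F hQS hτ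
    have hτ'A := autInducedBy_le_autGroup F hQS hτ'
    have hg : π ⟨α, hα⟩ ∉ E₁ := fun h => hαM ⟨⟨α, hα⟩, h, rfl⟩
    obtain ⟨α', hα'⟩ : ∃ α' : A, α' = ⟨α, hα⟩ := ⟨_, rfl⟩
    obtain ⟨t, ht⟩ : ∃ t : A, t = ⟨τ, hτA⟩ := ⟨_, rfl⟩
    obtain ⟨t', ht'⟩ : ∃ t' : A, t' = ⟨τ', hτ'A⟩ := ⟨_, rfl⟩
    rw [← hα'] at hg
    have h3 : Odd (orderOf (π t * (π α' * π t' * (π α')⁻¹))) := by
      refine odd_mul hN₁ hg (hPE ?_) ?_ ?_ ?_ ?_ ?_
      · rw [ht]; exact hmemP τ hτ hτA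
      · rw [Ne, hker, ht]; exact hτ1
      · rw [← map_mul, hker, ht]; exact hτ2
      · refine ⟨π t', hPE ?_, rfl⟩
        rw [ht']; exact hmemP τ' hτ' hτ'A
      · intro h
        rw [conj_eq_one_iff, hker, ht'] at h
        exact hτ'1 h
      · have e : π α' * π t' * (π α')⁻¹ * (π α' * π t' * (π α')⁻¹) = π α' * (π t' * π t') * (π α')⁻¹ := by group
        have h4 : π t' * π t' = 1 := by rw [← map_mul, hker, ht']; exact hτ'2
        rw [e, h4, mul_one, mul_inv_cancel]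
    refine ⟨_, h3, ?_⟩
    have h4 : π ((t * (α' * t' * α'⁻¹)) ^ orderOf (π t * (π α' * π t' * (π α')⁻¹))) = 1 := by
      rw [map_pow, map_mul, map_mul, map_mul, map_inv, pow_orderOf_eq_one]
    rw [hker] at h4
    have e : (((t * (α' * t' * α'⁻¹)) ^ orderOf (π t * (π α' * π t' * (π α')⁻¹)) : A) : MulAut Q) =
        (τ * (α * τ' * α⁻¹)) ^ orderOf (π t * (π α' * π t' * (π α')⁻¹)) := by
      rw [ht, ht', hα']; rfl
    rwa [e] at h4

end Cfsg.Agent.H456.HM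
end

-- part: H456/HM/EssT
section
/-!
# S5175, T12': essential subgroups inside `T` (helper456)
-/

set_option autoImplicit false

namespace Cfsg.Agent.H456.HM

open Cfsg Cfsg.FusionSystem Cfsg.Agent.H756.HM Cfsg.Agent.H802

universe u

/-- `x` swaps `V` and `W` -/
structure Swp {Ω : Type*} [Group Ω] (x : Ω) (V W : Subgroup Ω) : Prop where
  a1 : ∀ v ∈ V, x * v * x⁻¹ ∈ W
  a2 : ∀ w ∈ W, x * w * x⁻¹ ∈ V
  b1 : ∀ v ∈ V, x⁻¹ * v * x ∈ W
  b2 : ∀ w ∈ W, x⁻¹ * w * x ∈ V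

section

variable {Ω : Type*} [Group Ω] {K : Type} [Field K] {V W D : Subgroup Ω} {mu lam zet : Ω → K}

namespace Crd

variable (h : Crd K V W D mu lam zet)

include h

theorem zet_one : zet 1 = 0 := by
  have h4 := h.zet_mul 1 (V ⊓ W).one_mem 1 (V ⊓ W).one_mem
  rw [mul_one] at h4
  linear_combination -h4

theorem comm_iff {v w v' w' : Ω} (hv : v ∈ V) (hw : w ∈ W) (hv' : v' ∈ V) (hw' : w' ∈ W) :
    v * w * (v' * w') = v' * w' * (v * w) ↔ v * w' * v⁻¹ * w'⁻¹ = v' * w * v'⁻¹ * w⁻¹ := by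
  obtain ⟨a, ha⟩ : ∃ a, a = v * w' * v⁻¹ * w'⁻¹ := ⟨_, rfl⟩
  obtain ⟨b, hb⟩ : ∃ b, b = v' * w * v'⁻¹ * w⁻¹ := ⟨_, rfl⟩
  have haZ : a ∈ V ⊓ W := by rw [ha]; exact h.com v hv w' hw'
  have hbZ : b ∈ V ⊓ W := by rw [hb]; exact h.com v' hv' w hw
  have hT : ∀ {z}, z ∈ V → z ∈ V ⊔ W := fun hz => (le_sup_left : V ≤ V ⊔ W) hz
  have ca : ∀ u ∈ V, u * a = a * u := fun u hu => h.cenZ haZ (hT hu)
  have cb : ∀ u ∈ V, u * b = b * u := fun u hu => h.cenZ hbZ (hT hu)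
  have binv : b⁻¹ = b := h.invV hbZ.1
  have ainv : a⁻¹ = a := h.invV haZ.1
  -- `w v' = b v' w`, `w' v = a v w'`
  have e1 : w * v' = b * (v' * w) := by
    rw [← binv, hb]; group
  have e2 : w' * v = a * (v * w') := by
    rw [← ainv, ha]; group
  have e3 : v * w * (v' * w') = b * (v * v' * (w * w')) := by
    calc v * w * (v' * w') = v * (w * v') * w' := by group
      _ = v * b * (v' * w * w') := by rw [e1]; group
      _ = b * (v * v' * (w * w')) := by rw [cb v hv]; group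
  have e4 : v' * w' * (v * w) = a * (v * v' * (w * w')) := by
    calc v' * w' * (v * w) = v' * (w' * v) * w := by group
      _ = v' * a * (v * w' * w) := by rw [e2]; group
      _ = a * (v' * v * (w' * w)) := by rw [ca v' hv']; group
      _ = a * (v * v' * (w * w')) := by rw [h.commV hv' hv, h.commW hw' hw]
  rw [e3, e4, ← ha, ← hb]
  exact ⟨fun h5 => (mul_right_cancel h5).symm, fun h5 => by rw [h5]⟩

/-- proportional elements -/
theorem tri {g h' k g' h1 k1 : Ω} (hg : g ∈ V) (hh : h' ∈ V) (hk : k ∈ V) (hg' : g' ∈ W) (hh1 : h1 ∈ W) (hk1 : k1 ∈ W)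
    (hgW : g ∉ W) (hgV : g' ∉ V) (e1 : g * h1 * g⁻¹ * h1⁻¹ = h' * g' * h'⁻¹ * g'⁻¹)
    (e2 : g * k1 * g⁻¹ * k1⁻¹ = k * g' * k⁻¹ * g'⁻¹) :
    zet (h' * k1 * h'⁻¹ * k1⁻¹) = zet (k * h1 * k⁻¹ * h1⁻¹) := by
  have f1 := congrArg zet e1
  have f2 := congrArg zet e2
  rw [h.zet_com g hg h1 hh1, h.zet_com h' hh g' hg'] at f1
  rw [h.zet_com g hg k1 hk1, h.zet_com k hk g' hg'] at f2
  rw [h.zet_com h' hh k1 hk1, h.zet_com k hk h1 hh1]
  have hm : mu g ≠ 0 := fun h5 => hgW ((h.mu_zero g hg).1 h5)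
  have hl : lam g' ≠ 0 := fun h5 => hgV ((h.lam_zero g' hg').1 h5)
  -- mu g lam h1 = mu h' lam g', mu g lam k1 = mu k lam g'
  have h5 : mu g * lam g' * (mu h' * lam k1) = mu g * lam g' * (mu k * lam h1) := by
    linear_combination (mu h' * lam g') * f2 - (mu k * lam g') * f1
  exact mul_left_cancel₀ (mul_ne_zero hm hl) h5

/-- **The centralizer of an element of `T` outside `V ∪ V^x` is abelian.** -/
theorem cent_abel {x : Ω} (hx : Swp x V W)
    (hD : ∀ d ∈ D, x * d * x⁻¹ ∈ D → d = 1) {z s t : Ω} (hz : z ∈ V ⊔ W) (hzV : z ∉ V) (hzW : z ∉ W)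
    (hs : s ∈ V ⊔ W) (ht : t ∈ V ⊔ W) (hsz : z * s = s * z) (htz : z * t = t * z) : s * t = t * s := by
  obtain ⟨g, hg, g', hg', rfl⟩ := h.mem_sup.1 hz
  obtain ⟨a, ha, a', ha', rfl⟩ := h.mem_sup.1 hs
  obtain ⟨b, hb, b', hb', rfl⟩ := h.mem_sup.1 ht
  have hgW : g ∉ W := fun h5 => hzW (W.mul_mem h5 hg')
  have hgV : g' ∉ V := fun h5 => hzV (V.mul_mem hg h5)
  rw [h.comm_iff hg hg' ha ha'] at hsz
  rw [h.comm_iff hg hg' hb hb'] at htz
  rw [h.comm_iff ha ha' hb hb']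
  -- the coordinate `zet`
  have h1 := h.tri hg ha hb hg' ha' hb' hgW hgV hsz htz
  -- the coordinate `zet` of the conjugates under `x`
  have cx : ∀ v ∈ V, ∀ w ∈ W, x * w * x⁻¹ * (x * v * x⁻¹) * (x * w * x⁻¹)⁻¹ * (x * v * x⁻¹)⁻¹ =
      x * (v * w * v⁻¹ * w⁻¹) * x⁻¹ := by
    intro v hv w hw
    have h5 := h.invV (h.com v hv w hw).1
    rw [← h5]
    group
  have h2 := h.tri (hx.a2 _ hg') (hx.a2 _ ha') (hx.a2 _ hb') (hx.a1 _ hg) (hx.a1 _ ha) (hx.a1 _ hb)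
    (fun h5 => hgV (by
      have h6 := hx.b2 _ h5
      have : x⁻¹ * (x * g' * x⁻¹) * x = g' := by group
      rwa [this] at h6))
    (fun h5 => hgW (by
      have h6 := hx.b1 _ h5
      have : x⁻¹ * (x * g * x⁻¹) * x = g := by group
      rwa [this] at h6))
    (by rw [cx a ha g' hg', cx g hg a' ha', hsz]) (by rw [cx b hb g' hg', cx g hg b' hb', htz])
  rw [cx b hb a' ha', cx a ha b' hb'] at h2
  obtain ⟨u, hu⟩ : ∃ u, u = a * b' * a⁻¹ * b'⁻¹ := ⟨_, rfl⟩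
  obtain ⟨u', hu'⟩ : ∃ u', u' = b * a' * b⁻¹ * a'⁻¹ := ⟨_, rfl⟩
  have huZ : u ∈ V ⊓ W := by rw [hu]; exact h.com a ha b' hb'
  have hu'Z : u' ∈ V ⊓ W := by rw [hu']; exact h.com b hb a' ha'
  rw [← hu, ← hu'] at h1 h2 ⊢
  have xZ : ∀ {z}, z ∈ V ⊓ W → x * z * x⁻¹ ∈ V ⊓ W := fun hz => ⟨hx.a2 _ hz.2, hx.a1 _ hz.1⟩
  have h3 : u * u' ∈ D := by
    rw [← h.zet_zero _ ((V ⊓ W).mul_mem huZ hu'Z), h.zet_mul _ huZ _ hu'Z, h1, h.add_self]
  have h4 : x * (u * u') * x⁻¹ ∈ D := by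
    have e : x * (u * u') * x⁻¹ = (x * u * x⁻¹) * (x * u' * x⁻¹) := by group
    rw [e, ← h.zet_zero _ ((V ⊓ W).mul_mem (xZ huZ) (xZ hu'Z)), h.zet_mul _ (xZ huZ) _ (xZ hu'Z), h2, h.add_self]
  have h5 := hD _ h3 h4
  have h6 : u = u'⁻¹ := eq_inv_of_mul_eq_one_left h5
  rw [h6, h.invV hu'Z.1]

end Crd

/-- the swap in the configuration -/
theorem swp_of_conf {S : Subgroup Ω} {F : FusionSystem S} [Fintype K] {V T : Subgroup Ω} {x : Ω}
    (c : Conf F K V T x) : Swp x V (cj x V) where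
  a1 := fun v hv => conj_mem_cj hv
  a2 := fun w hw => xW c hw
  b1 := fun v hv => by
    rw [mem_cj]
    have h1 := T_normV c (T.inv_mem c.x_sq) hv
    have : x⁻¹ * (x⁻¹ * v * x) * x = (x ^ 2)⁻¹ * v * (x ^ 2)⁻¹⁻¹ := by
      simp only [pow_two, mul_inv_rev, inv_inv, mul_assoc]
    rwa [this]
  b2 := fun w hw => mem_cj.1 hw

theorem DD_of_conf {S : Subgroup Ω} {F : FusionSystem S} [Fintype K] {V T : Subgroup Ω} {x : Ω}
    (c : Conf F K V T x) : ∀ d ∈ fixS V c.E, x * d * x⁻¹ ∈ fixS V c.E → d = 1 := by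
  intro d hd hd'
  have h1 : x * d * x⁻¹ ∈ fixS V c.E ⊓ cj x (fixS V c.E) := ⟨hd', conj_mem_cj hd⟩
  rw [c.DD, Subgroup.mem_bot] at h1
  exact conj_eq_one_iff.1 h1

/-- **T12'.** -/
theorem stEssT : StEssT.{u} := by
  intro Ω _ S _ hS F hF K _ _ V T x b R hR hRT
  have h2 : Fact (Nat.Prime 2) := ⟨Nat.prime_two⟩
  have c : Conf F K V T x := b.toConf
  obtain ⟨mu, lam, zet, h⟩ := exists_crd b.toConf
  have hT : T = V ⊔ cj x V := b.T_eq
  have hTS := T_le b.toConf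
  set W := cj x V with hW
  have hVT := V_le_T b.toConf
  have hWT := W_le_T b.toConf
  have hVS : V ≤ S := b.V_le
  have hWS : W ≤ S := hWT.trans hTS
  have hRVW : R ≤ V ⊔ W := hT ▸ hRT
  have hZR : V ⊓ W ≤ R := fun z hz => ess_cent hR (hVS hz.1) fun r hr => (h.cenZ hz (hRVW hr)).symm
  by_cases hRV : R ≤ V
  · left
    refine le_antisymm hRV fun v hv => ess_cent hR (hVS hv) fun r hr => h.commV hv (hRV hr)
  by_cases hRW : R ≤ W
  · right; left
    refine le_antisymm hRW fun v hv => ess_cent hR (hWS hv) fun r hr => h.commW hv (hRW hr)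
  right; right
  refine le_antisymm hRT ?_
  -- an element outside `V ∪ W`
  obtain ⟨r₀, hr₀, hr₀V, hr₀W⟩ : ∃ r ∈ R, r ∉ V ∧ r ∉ W := by
    obtain ⟨a, ha, haV⟩ := SetLike.not_le_iff_exists.1 hRV
    obtain ⟨b, hb, hbW⟩ := SetLike.not_le_iff_exists.1 hRW
    by_cases haW : a ∈ W
    · by_cases hbV : b ∈ V
      · refine ⟨a * b, R.mul_mem ha hb, fun h5 => haV ?_, fun h5 => hbW ?_⟩
        · have := V.mul_mem h5 (V.inv_mem hbV)
          rwa [mul_inv_cancel_right] at this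
        · have := W.mul_mem (W.inv_mem haW) h5
          rwa [inv_mul_cancel_left] at this
      · exact ⟨b, hb, hbV, hbW⟩
    · exact ⟨a, ha, haV, haW⟩
  -- `Z` is characteristic in `R`
  have hZ : ∀ α ∈ F.autGroup R, ∀ r : R, (r : Ω) ∈ V ⊓ W → ((α r : R) : Ω) ∈ V ⊓ W := by
    intro α _ r hr
    by_cases hab : ∀ a ∈ R, ∀ b ∈ R, a * b = b * a
    · -- `R` abelian
      have h3 : ((α r : R) : Ω) * (α r : R) = 1 := by
        have h4 : r * r = 1 := Subtype.ext (h.elV r hr.1)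
        have h5 := congrArg α h4
        rw [map_mul, map_one] at h5
        exact congrArg Subtype.val h5
      rcases h.inv_mem (hRVW (α r).2) h3 with h4 | h4
      · refine ⟨h4, ?_⟩
        by_contra h5
        exact hr₀V (h.cent_V (hRVW hr₀) h4 h5 (hab _ hr₀ _ (α r).2))
      · refine ⟨?_, h4⟩
        by_contra h5
        exact hr₀W (h.cent_W (hRVW hr₀) h4 h5 (hab _ hr₀ _ (α r).2))
    · -- `R` not abelian
      have h3 : ∀ a ∈ R, a * ((α r : R) : Ω) = (α r : R) * a := by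
        intro a ha
        have h4 : α⁻¹ ⟨a, ha⟩ * r = r * α⁻¹ ⟨a, ha⟩ := Subtype.ext (h.cenZ hr (hRVW (α⁻¹ ⟨a, ha⟩).2))
        have h5 := congrArg α h4
        rw [map_mul, map_mul, MulAut.apply_inv_self] at h5
        exact congrArg Subtype.val h5
      by_cases h4 : ((α r : R) : Ω) ∈ V
      · refine ⟨h4, ?_⟩
        by_contra h5
        exact hr₀V (h.cent_V (hRVW hr₀) h4 h5 (h3 _ hr₀))
      · by_cases h5 : ((α r : R) : Ω) ∈ W
        · exact absurd (h.cent_W (hRVW hr₀) h5 h4 (h3 _ hr₀)) hr₀W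
        · exfalso
          apply hab
          intro a ha b' hb
          exact h.cent_abel (swp_of_conf b.toConf) (DD_of_conf b.toConf) (hRVW (α r).2) h4 h5 (hRVW ha) (hRVW hb)
            (h3 a ha).symm (h3 b' hb).symm
  intro t ht
  have htVW : t ∈ V ⊔ W := hT ▸ ht
  exact mem_of_chain3 hS hR (V ⊓ W) (V ⊓ W) le_rfl hZR hZ hZ (hTS ht) (fun r hr => h.comm_mem htVW (hRVW hr))
    (fun z hz => by
      rw [h.cenZ hz htVW]
      have : z * t * t⁻¹ * z⁻¹ = 1 := by group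
      rw [this]
      exact (V ⊓ W).one_mem) (fun z hz => h.cenZ hz htVW)

end

end Cfsg.Agent.H456.HM
end

-- part: H456/HM/Geo
section
/-!
# S5175, T12: the geometry of `S` (helper456)
-/

set_option autoImplicit false

namespace Cfsg.Agent.H456.HM

open Cfsg Cfsg.FusionSystem Cfsg.Agent.H756.HM Cfsg.Agent.H802

variable {Ω : Type*} [Group Ω] {K : Type} [Field K] {S T V W D : Subgroup Ω} {mu lam zet : Ω → K}

/-- the geometry of `S` -/
structure Geo (K : Type) [Field K] (S T V W D : Subgroup Ω) (mu lam zet : Ω → K) : Prop where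
  crd : Crd K V W D mu lam zet
  T_eq : T = V ⊔ W
  T_le : T ≤ S
  mul : ∀ b ∈ S, b ∉ T → ∀ c ∈ S, c ∉ T → b * c ∈ T
  cenV : ∀ s ∈ S, (∀ v ∈ V, s * v = v * s) → s ∈ V
  sw : ∀ b ∈ S, b ∉ T → Swp b V W
  DD : ∀ b ∈ S, b ∉ T → ∀ d ∈ D, b * d * b⁻¹ ∈ D → d = 1

namespace Geo

variable (g : Geo K S T V W D mu lam zet)

include g

theorem VT {v : Ω} (h : v ∈ V) : v ∈ T := by rw [g.T_eq]; exact (le_sup_left : V ≤ V ⊔ W) h

theorem WT {v : Ω} (h : v ∈ W) : v ∈ T := by rw [g.T_eq]; exact (le_sup_right : W ≤ V ⊔ W) h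

theorem ZT {v : Ω} (h : v ∈ V ⊓ W) : v ∈ T := g.VT h.1

theorem mT {t : Ω} (h : t ∈ T) : t ∈ V ⊔ W := by rwa [← g.T_eq]

theorem cenZ {z t : Ω} (hz : z ∈ V ⊓ W) (ht : t ∈ T) : t * z = z * t := g.crd.cenZ hz (g.mT ht)

theorem bb {b : Ω} (hb : b ∈ S) (hbT : b ∉ T) : b * b ∈ T := g.mul b hb hbT b hb hbT

omit [Field K] g in
theorem inv_not {b : Ω} (hbT : b ∉ T) : b⁻¹ ∉ T := fun h => hbT (by simpa using T.inv_mem h)

/-- the other elements outside `T` -/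
theorem mul_inv {b c : Ω} (hb : b ∈ S) (hbT : b ∉ T) (hc : c ∈ S) (hcT : c ∉ T) : b * c⁻¹ ∈ T :=
  g.mul b hb hbT c⁻¹ (S.inv_mem hc) (inv_not hcT)

/-- `T` is normal in `S` -/
theorem normT {s t : Ω} (hs : s ∈ S) (ht : t ∈ T) : s * t * s⁻¹ ∈ T := by
  by_cases hsT : s ∈ T
  · exact T.mul_mem (T.mul_mem hsT ht) (T.inv_mem hsT)
  · obtain ⟨v, hv, w, hw, rfl⟩ := g.crd.mem_sup.1 (g.mT ht)
    have e : s * (v * w) * s⁻¹ = (s * v * s⁻¹) * (s * w * s⁻¹) := by group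
    rw [e]
    exact T.mul_mem (g.WT ((g.sw s hs hsT).a1 v hv)) (g.VT ((g.sw s hs hsT).a2 w hw))

theorem normZ {s z : Ω} (hs : s ∈ S) (hz : z ∈ V ⊓ W) : s * z * s⁻¹ ∈ V ⊓ W := by
  by_cases hsT : s ∈ T
  · rw [g.cenZ hz hsT, mul_inv_cancel_right]
    exact hz
  · exact ⟨(g.sw s hs hsT).a2 z hz.2, (g.sw s hs hsT).a1 z hz.1⟩

/-- the action of `S ∖ T` on `Z` does not depend on the element -/
theorem act_eq {b c z : Ω} (hb : b ∈ S) (hbT : b ∉ T) (hc : c ∈ S) (hcT : c ∉ T) (hz : z ∈ V ⊓ W) :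
    b * z * b⁻¹ = c * z * c⁻¹ := by
  have h1 := g.mul_inv hb hbT hc hcT
  have h2 := g.cenZ (g.normZ hc hz) h1
  have e : b * z * b⁻¹ = (b * c⁻¹) * (c * z * c⁻¹) * (b * c⁻¹)⁻¹ := by group
  rw [e, h2, mul_inv_cancel_right]

theorem act_sq {b z : Ω} (hb : b ∈ S) (hbT : b ∉ T) (hz : z ∈ V ⊓ W) : b * (b * z * b⁻¹) * b⁻¹ = z := by
  have h1 := g.cenZ hz (g.bb hb hbT)
  have e : b * (b * z * b⁻¹) * b⁻¹ = b * b * z * (b * b)⁻¹ := by group
  rw [e, h1, mul_inv_cancel_right]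

theorem commTT {s t : Ω} (hs : s ∈ T) (ht : t ∈ T) : s * t * s⁻¹ * t⁻¹ ∈ V ⊓ W := g.crd.comm_mem (g.mT hs) (g.mT ht)

theorem invZ {z : Ω} (hz : z ∈ V ⊓ W) : z⁻¹ = z := g.crd.invV hz.1

theorem not_swap {b v : Ω} (hb : b ∈ S) (hbT : b ∉ T) (hvW : v ∉ W) : b * v * b⁻¹ ∉ V := fun h => hvW (by
  have h6 := (g.sw b hb hbT).b1 _ h
  have : b⁻¹ * (b * v * b⁻¹) * b = v := by group
  rwa [this] at h6)

/-- `Δ / Z = C_{T/Z}(S)` -/
def Del : Subgroup Ω where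
  carrier := {t | t ∈ T ∧ ∀ s ∈ S, t * s * t⁻¹ * s⁻¹ ∈ V ⊓ W}
  one_mem' := ⟨T.one_mem, fun s _ => by
    have : (1 : Ω) * s * 1⁻¹ * s⁻¹ = 1 := by group
    rw [this]; exact (V ⊓ W).one_mem⟩
  mul_mem' := by
    rintro a b ⟨ha, ha'⟩ ⟨hb, hb'⟩
    refine ⟨T.mul_mem ha hb, fun s hs => ?_⟩
    have e : a * b * s * (a * b)⁻¹ * s⁻¹ = (a * (b * s * b⁻¹ * s⁻¹) * a⁻¹) * (a * s * a⁻¹ * s⁻¹) := by group
    rw [e, g.cenZ (hb' s hs) ha, mul_inv_cancel_right]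
    exact (V ⊓ W).mul_mem (hb' s hs) (ha' s hs)
  inv_mem' := by
    rintro a ⟨ha, ha'⟩
    refine ⟨T.inv_mem ha, fun s hs => ?_⟩
    have e : a⁻¹ * s * a⁻¹⁻¹ * s⁻¹ = a⁻¹ * (a * s * a⁻¹ * s⁻¹)⁻¹ * a⁻¹⁻¹ := by group
    rw [e, g.cenZ ((V ⊓ W).inv_mem (ha' s hs)) (T.inv_mem ha), mul_inv_cancel_right]
    exact (V ⊓ W).inv_mem (ha' s hs)

theorem mem_Del_of {t b : Ω} (ht : t ∈ T) (hb : b ∈ S) (hbT : b ∉ T) (h : t * b * t⁻¹ * b⁻¹ ∈ V ⊓ W) : t ∈ g.Del := by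
  refine ⟨ht, fun s hs => ?_⟩
  by_cases hsT : s ∈ T
  · exact g.commTT ht hsT
  · have h1 := g.mul_inv hs hsT hb hbT
    have e : t * s * t⁻¹ * s⁻¹ = (t * (s * b⁻¹) * t⁻¹ * (s * b⁻¹)⁻¹) * ((s * b⁻¹) * (t * b * t⁻¹ * b⁻¹) * (s * b⁻¹)⁻¹) := by
      group
    rw [e, g.cenZ h h1, mul_inv_cancel_right]
    exact (V ⊓ W).mul_mem (g.commTT ht h1) h

theorem Z_le_Del {z : Ω} (hz : z ∈ V ⊓ W) : z ∈ g.Del := by
  refine ⟨g.ZT hz, fun s hs => ?_⟩
  have e : z * s * z⁻¹ * s⁻¹ = z * (s * z⁻¹ * s⁻¹) := by group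
  rw [e]
  exact (V ⊓ W).mul_mem hz (g.normZ hs ((V ⊓ W).inv_mem hz))

/-- `v v^b ∈ Δ` -/
theorem vv_mem {b v : Ω} (hb : b ∈ S) (hbT : b ∉ T) (hv : v ∈ V) : v * (b * v * b⁻¹) ∈ g.Del := by
  have hw := (g.sw b hb hbT).a1 v hv
  refine g.mem_Del_of (T.mul_mem (g.VT hv) (g.WT hw)) hb hbT ?_
  -- `b (v v^b) b⁻¹ = v^b v z`
  obtain ⟨z, hz⟩ : ∃ z, z = (b * b) * v * (b * b)⁻¹ * v⁻¹ := ⟨_, rfl⟩
  have hzZ : z ∈ V ⊓ W := by rw [hz]; exact g.commTT (g.bb hb hbT) (g.VT hv)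
  have e : v * (b * v * b⁻¹) * b * (v * (b * v * b⁻¹))⁻¹ * b⁻¹ =
      (v * (b * v * b⁻¹) * v⁻¹) * ((b * b) * v * (b * b)⁻¹ * v⁻¹)⁻¹ * (v * (b * v * b⁻¹) * v⁻¹)⁻¹ *
        (v * (b * v * b⁻¹) * v⁻¹ * (b * v * b⁻¹)⁻¹) := by group
  rw [e, ← hz, g.cenZ ((V ⊓ W).inv_mem hzZ) (T.mul_mem (T.mul_mem (g.VT hv) (g.WT hw)) (T.inv_mem (g.VT hv))),
    mul_inv_cancel_right]
  exact (V ⊓ W).mul_mem ((V ⊓ W).inv_mem hzZ) (g.commTT (g.VT hv) (g.WT hw))

theorem mh_conj {b v w : Ω} (hb : b ∈ S) (hbT : b ∉ T) (hv : v ∈ V) (hw : w ∈ W) :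
    g.crd.mh (b * (v * w) * b⁻¹) = mu (b * w * b⁻¹) ∧ g.crd.lh (b * (v * w) * b⁻¹) = lam (b * v * b⁻¹) := by
  have hv' := (g.sw b hb hbT).a1 v hv
  have hw' := (g.sw b hb hbT).a2 w hw
  have e : b * (v * w) * b⁻¹ = (b * v * b⁻¹) * (b * w * b⁻¹) := by group
  rw [e, g.crd.mh_mul (g.mT (g.WT hv')) (g.mT (g.VT hw')), g.crd.lh_mul (g.mT (g.WT hv')) (g.mT (g.VT hw')),
    g.crd.mh_W hv', g.crd.lh_W hv', g.crd.mh_V hw', g.crd.lh_V hw', zero_add, add_zero]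
  exact ⟨rfl, rfl⟩

theorem mh_comm {b t : Ω} (hb : b ∈ S) (ht : t ∈ T) :
    g.crd.mh (t * b * t⁻¹ * b⁻¹) = g.crd.mh t + g.crd.mh (b * t * b⁻¹) ∧
      g.crd.lh (t * b * t⁻¹ * b⁻¹) = g.crd.lh t + g.crd.lh (b * t * b⁻¹) := by
  have h1 := g.normT hb ht
  have e : t * b * t⁻¹ * b⁻¹ = t * (b * t * b⁻¹)⁻¹ := by group
  rw [e, g.crd.mh_mul (g.mT ht) (g.mT (T.inv_mem h1)), g.crd.lh_mul (g.mT ht) (g.mT (T.inv_mem h1)),
    g.crd.mh_inv (g.mT h1), g.crd.lh_inv (g.mT h1)]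
  exact ⟨rfl, rfl⟩

/-- the elements of `Δ` -/
theorem exists_vv {b t : Ω} (hb : b ∈ S) (hbT : b ∉ T) (ht : t ∈ g.Del) :
    ∃ v ∈ V, ∃ z ∈ V ⊓ W, t = v * (b * v * b⁻¹) * z := by
  obtain ⟨v, hv, w, hw, rfl⟩ := g.crd.mem_sup.1 (g.mT ht.1)
  have hv' := (g.sw b hb hbT).a1 v hv
  have h1 := ht.2 b hb
  have h2 := (g.mh_comm hb ht.1).2
  rw [((g.crd.mem_Z_iff (g.mT (g.ZT h1))).1 h1).2, g.crd.lh_eq hv hw, (g.mh_conj hb hbT hv hw).2] at h2
  have h3 := g.crd.eq_of_add h2.symm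
  have h4 : (b * v * b⁻¹)⁻¹ * w ∈ W := W.mul_mem (W.inv_mem hv') hw
  refine ⟨v, hv, (b * v * b⁻¹)⁻¹ * w, ⟨(g.crd.lam_zero _ h4).1 ?_, h4⟩, by group⟩
  rw [g.crd.lam_mul _ (W.inv_mem hv') _ hw, g.crd.invW hv', h3, g.crd.add_self]

/-- `[T, S] ≤ Δ` -/
theorem comm_Del {s t : Ω} (hs : s ∈ S) (ht : t ∈ T) : t * s * t⁻¹ * s⁻¹ ∈ g.Del := by
  by_cases hsT : s ∈ T
  · exact g.Z_le_Del (g.commTT ht hsT)
  · have hu : t * s * t⁻¹ * s⁻¹ ∈ T := by
      have e : t * s * t⁻¹ * s⁻¹ = t * (s * t⁻¹ * s⁻¹) := by group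
      rw [e]
      exact T.mul_mem ht (g.normT hs (T.inv_mem ht))
    refine g.mem_Del_of hu hs hsT ?_
    have h1 := g.mh_comm hs hu
    have h2 := g.mh_comm hs ht
    have hu' := g.normT hs hu
    have h0 : t * s * t⁻¹ * s⁻¹ * s * (t * s * t⁻¹ * s⁻¹)⁻¹ * s⁻¹ ∈ T := by
      have e : t * s * t⁻¹ * s⁻¹ * s * (t * s * t⁻¹ * s⁻¹)⁻¹ * s⁻¹ =
        (t * s * t⁻¹ * s⁻¹) * (s * (t * s * t⁻¹ * s⁻¹) * s⁻¹)⁻¹ := by group
      rw [e]
      exact T.mul_mem hu (T.inv_mem hu')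
    rw [g.crd.mem_Z_iff (g.mT h0), h1.1, h1.2, h2.1, h2.2]
    -- `s [t,s] s⁻¹ = (s t s⁻¹) (s² t s⁻²)⁻¹`
    have hst := g.normT hs ht
    have hsst : (s * s) * t * (s * s)⁻¹ ∈ T := g.normT (S.mul_mem hs hs) ht
    have e : s * (t * s * t⁻¹ * s⁻¹) * s⁻¹ = (s * t * s⁻¹) * ((s * s) * t * (s * s)⁻¹)⁻¹ := by group
    have e2 : (s * s) * t * (s * s)⁻¹ = ((s * s) * t * (s * s)⁻¹ * t⁻¹) * t := by group
    have h3 := g.commTT (g.bb hs hsT) ht
    have h4 := (g.crd.mem_Z_iff (g.mT (g.ZT h3))).1 h3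
    have e3 : g.crd.mh ((s * s) * t * (s * s)⁻¹) = g.crd.mh t := by
      rw [e2, g.crd.mh_mul (g.mT (g.ZT h3)) (g.mT ht), h4.1, zero_add]
    have e4 : g.crd.lh ((s * s) * t * (s * s)⁻¹) = g.crd.lh t := by
      rw [e2, g.crd.lh_mul (g.mT (g.ZT h3)) (g.mT ht), h4.2, zero_add]
    rw [e, g.crd.mh_mul (g.mT hst) (g.mT (T.inv_mem hsst)), g.crd.lh_mul (g.mT hst) (g.mT (T.inv_mem hsst)),
      g.crd.mh_inv (g.mT hsst), g.crd.lh_inv (g.mT hsst), e3, e4]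
    constructor
    · linear_combination (g.crd.add_self (g.crd.mh t)) + g.crd.add_self (g.crd.mh (s * t * s⁻¹))
    · linear_combination (g.crd.add_self (g.crd.lh t)) + g.crd.add_self (g.crd.lh (s * t * s⁻¹))

/-- the order of `Δ` -/
theorem card_Del [Fintype K] [Finite S] (hex : ∃ b ∈ S, b ∉ T) :
    Nat.card g.Del = Fintype.card K * Nat.card ↥(V ⊓ W) := by
  obtain ⟨b, hb, hbT⟩ := hex
  let μ : g.Del →* Multiplicative K :=
    { toFun := fun t => Multiplicative.ofAdd (g.crd.mh t)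
      map_one' := by
        show Multiplicative.ofAdd (g.crd.mh 1) = 1
        rw [g.crd.mh_one]; rfl
      map_mul' := fun s t => by
        show Multiplicative.ofAdd (g.crd.mh (s * t)) = _
        rw [g.crd.mh_mul (g.mT s.2.1) (g.mT t.2.1)]; rfl }
  have hμ : Function.Surjective μ := by
    intro k
    obtain ⟨v, hv, hv'⟩ := g.crd.mu_surj (Multiplicative.toAdd k)
    refine ⟨⟨_, g.vv_mem hb hbT hv⟩, ?_⟩
    show Multiplicative.ofAdd (g.crd.mh (v * (b * v * b⁻¹))) = k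
    rw [g.crd.mh_eq hv ((g.sw b hb hbT).a1 v hv), hv']
    rfl
  have h4 := Subgroup.card_mul_index μ.ker
  rw [Subgroup.index_ker, MonoidHom.range_eq_top.2 hμ, Subgroup.card_top, Nat.card_congr Multiplicative.toAdd,
    Nat.card_eq_fintype_card (α := K)] at h4
  have hle : V ⊓ W ≤ g.Del := fun z hz => g.Z_le_Del hz
  have h5 : μ.ker = (V ⊓ W).subgroupOf g.Del := by
    ext t
    rw [MonoidHom.mem_ker, Subgroup.mem_subgroupOf]
    constructor
    · intro h6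
      have h7 : g.crd.mh t = 0 := ofAdd_eq_one.1 h6
      obtain ⟨v, hv, z, hz, hvz⟩ := g.exists_vv hb hbT t.2
      have hv' := (g.sw b hb hbT).a1 v hv
      rw [hvz, mul_assoc, g.crd.mh_eq hv (W.mul_mem hv' hz.2), g.crd.mu_zero v hv] at h7
      rw [hvz]
      exact (V ⊓ W).mul_mem ((V ⊓ W).mul_mem ⟨hv, h7⟩ (g.normZ hb ⟨hv, h7⟩)) hz
    · intro h6
      exact ofAdd_eq_one.2 (g.crd.mh_W h6.2)
  rw [h5, Nat.card_congr (Subgroup.subgroupOfEquivOfLe hle).toEquiv, mul_comm] at h4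
  exact h4.symm

/-- **The action of an element of `S ∖ T` is semilinear** (`D = 1`). -/
theorem semi (hD : D = ⊥) {b : Ω} (hb : b ∈ S) (hbT : b ∉ T) :
    ∃ (σ : K →+* K) (a : K), a ≠ 0 ∧ (∀ k, σ (σ k) = k) ∧ (∀ v ∈ V, lam (b * v * b⁻¹) = a * σ (mu v)) ∧
      (∀ w ∈ W, mu (b * w * b⁻¹) = (σ a)⁻¹ * σ (lam w)) ∧
      ∀ z ∈ V ⊓ W, zet (b * z * b⁻¹) = a * (σ a)⁻¹ * σ (zet z) := by
  have h := g.crd
  have sw := g.sw b hb hbT
  choose sV hsV hsV' using h.mu_surj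
  choose sW hsW hsW' using h.lam_surj
  choose sZ hsZ hsZ' using h.zet_surj
  obtain ⟨α, hα⟩ : ∃ α : K → K, ∀ k, α k = lam (b * sV k * b⁻¹) := ⟨_, fun _ => rfl⟩
  obtain ⟨β, hβ⟩ : ∃ β : K → K, ∀ k, β k = mu (b * sW k * b⁻¹) := ⟨_, fun _ => rfl⟩
  obtain ⟨γ, hγ⟩ : ∃ γ : K → K, ∀ k, γ k = zet (b * sZ k * b⁻¹) := ⟨_, fun _ => rfl⟩
  have hα1 : ∀ v ∈ V, lam (b * v * b⁻¹) = α (mu v) := by
    intro v hv
    rw [hα]
    apply h.lam_eq (sw.a1 _ (hsV _)) (sw.a1 _ hv)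
    have h1 : (sV (mu v))⁻¹ * v ∈ V ⊓ W := by
      have h2 : (sV (mu v))⁻¹ * v ∈ V := V.mul_mem (V.inv_mem (hsV _)) hv
      refine ⟨h2, (h.mu_zero _ h2).1 ?_⟩
      rw [h.mu_mul _ (V.inv_mem (hsV _)) _ hv, h.invV (hsV _), hsV', h.add_self]
    have e : (b * sV (mu v) * b⁻¹)⁻¹ * (b * v * b⁻¹) = b * ((sV (mu v))⁻¹ * v) * b⁻¹ := by group
    rw [e]
    exact (g.normZ hb h1).1
  have hβ1 : ∀ w ∈ W, mu (b * w * b⁻¹) = β (lam w) := by
    intro v hv
    rw [hβ]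
    apply h.mu_eq (sw.a2 _ (hsW _)) (sw.a2 _ hv)
    have h1 : (sW (lam v))⁻¹ * v ∈ V ⊓ W := by
      have h2 : (sW (lam v))⁻¹ * v ∈ W := W.mul_mem (W.inv_mem (hsW _)) hv
      refine ⟨(h.lam_zero _ h2).1 ?_, h2⟩
      rw [h.lam_mul _ (W.inv_mem (hsW _)) _ hv, h.invW (hsW _), hsW', h.add_self]
    have e : (b * sW (lam v) * b⁻¹)⁻¹ * (b * v * b⁻¹) = b * ((sW (lam v))⁻¹ * v) * b⁻¹ := by group
    rw [e]
    exact (g.normZ hb h1).2
  have zinj : ∀ z ∈ V ⊓ W, ∀ z' ∈ V ⊓ W, zet z = zet z' → z = z' := by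
    intro z hz z' hz' hzz
    have h1 : z * z' ∈ D := by
      rw [← h.zet_zero _ ((V ⊓ W).mul_mem hz hz'), h.zet_mul _ hz _ hz', hzz, h.add_self]
    rw [hD, Subgroup.mem_bot] at h1
    have h2 := eq_inv_of_mul_eq_one_left h1
    rw [h2, g.invZ hz']
  have hγ1 : ∀ z ∈ V ⊓ W, zet (b * z * b⁻¹) = γ (zet z) := by
    intro z hz
    rw [hγ, zinj _ (hsZ _) z hz (hsZ' _)]
  -- additivity
  have αadd : ∀ k l, α (k + l) = α k + α l := by
    intro k l
    have h1 := hα1 _ (V.mul_mem (hsV k) (hsV l))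
    rw [h.mu_mul _ (hsV k) _ (hsV l), hsV', hsV'] at h1
    rw [← h1]
    have e : b * (sV k * sV l) * b⁻¹ = (b * sV k * b⁻¹) * (b * sV l * b⁻¹) := by group
    rw [e, h.lam_mul _ (sw.a1 _ (hsV k)) _ (sw.a1 _ (hsV l)), ← hα, ← hα]
  -- the relation
  have rel : ∀ k l, γ (k * l) = α k * β l := by
    intro k l
    have h1 := h.com _ (hsV k) _ (hsW l)
    have h2 := hγ1 _ h1
    rw [h.zet_com _ (hsV k) _ (hsW l), hsV', hsW'] at h2
    rw [← h2]
    have h3 := h.com _ (sw.a2 _ (hsW l)) _ (sw.a1 _ (hsV k))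
    have e : b * (sV k * sW l * (sV k)⁻¹ * (sW l)⁻¹) * b⁻¹ =
        ((b * sW l * b⁻¹) * (b * sV k * b⁻¹) * (b * sW l * b⁻¹)⁻¹ * (b * sV k * b⁻¹)⁻¹)⁻¹ := by group
    rw [e, g.invZ h3, h.zet_com _ (sw.a2 _ (hsW l)) _ (sw.a1 _ (hsV k)), ← hβ, ← hα, mul_comm]
  have βα : ∀ k, β (α k) = k := by
    intro k
    have h1 := hβ1 _ (sw.a1 _ (hsV k))
    rw [← hα] at h1
    rw [← h1]
    conv_rhs => rw [← hsV' k]
    have h2 : b * (b * sV k * b⁻¹) * b⁻¹ ∈ V := sw.a2 _ (sw.a1 _ (hsV k))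
    apply h.mu_eq (hsV k) h2
    have e : (sV k)⁻¹ * (b * (b * sV k * b⁻¹) * b⁻¹) = (sV k)⁻¹ * (b * b) * (sV k)⁻¹⁻¹ * (b * b)⁻¹ := by group
    rw [e]
    exact (g.commTT (g.VT (V.inv_mem (hsV k))) (g.bb hb hbT)).2
  have hα0 : ∀ k, k ≠ 0 → α k ≠ 0 := by
    intro k hk h1
    rw [hα, h.lam_zero _ (sw.a1 _ (hsV k))] at h1
    have h2 := sw.b1 _ h1
    have e : b⁻¹ * (b * sV k * b⁻¹) * b = sV k := by group
    rw [e, ← h.mu_zero _ (hsV k), hsV'] at h2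
    exact hk h2
  set a := α 1 with ha
  set e := β 1 with he
  have ha0 : a ≠ 0 := hα0 1 one_ne_zero
  have hγa : ∀ k, γ k = a * β k := fun k => by have := rel 1 k; rwa [one_mul] at this
  have hγe : ∀ k, γ k = α k * e := fun k => by have := rel k 1; rwa [mul_one] at this
  have he0 : e ≠ 0 := by
    intro h1
    have h2 := hγe (0 : K)
    have h3 := hγa (α 1)
    rw [βα, hγe, h1, mul_zero, mul_one] at h3
    exact ha0 h3.symm
  have hβ' : ∀ k, β k = a⁻¹ * e * α k := by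
    intro k
    have h1 := (hγa k).symm.trans (hγe k)
    field_simp
    linear_combination h1
  let σ : K →+* K :=
    { toFun := fun k => a⁻¹ * α k
      map_one' := inv_mul_cancel₀ ha0
      map_mul' := fun k l => by
        show a⁻¹ * α (k * l) = a⁻¹ * α k * (a⁻¹ * α l)
        have h1 := rel k l
        rw [hγe, hβ'] at h1
        have h2 : α (k * l) * e = (a⁻¹ * α k * α l) * e := by linear_combination h1
        rw [mul_right_cancel₀ he0 h2]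
        ring
      map_zero' := by
        show a⁻¹ * α 0 = 0
        have h1 := αadd 0 0
        rw [add_zero] at h1
        have h2 : α 0 = 0 := by linear_combination -h1
        rw [h2, mul_zero]
      map_add' := fun k l => by
        show a⁻¹ * α (k + l) = a⁻¹ * α k + a⁻¹ * α l
        rw [αadd]; ring }
  have hσ : ∀ k, α k = a * σ k := fun k => by
    show α k = a * (a⁻¹ * α k)
    rw [mul_inv_cancel_left₀ ha0]
  have hσe : ∀ k, β k = e * σ k := fun k => by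
    rw [hβ']
    show a⁻¹ * e * α k = e * (a⁻¹ * α k)
    ring
  have hea : e * σ a = 1 := by
    have h1 := βα 1
    rw [hσe] at h1
    exact h1
  have hσa0 : σ a ≠ 0 := right_ne_zero_of_mul_eq_one hea
  have he' : e = (σ a)⁻¹ := eq_inv_of_mul_eq_one_left hea
  refine ⟨σ, a, ha0, fun k => ?_, fun v hv => ?_, fun w hw => ?_, fun z hz => ?_⟩
  · have h1 := βα k
    rw [hσe, hσ, map_mul] at h1
    calc σ (σ k) = e * σ a * σ (σ k) := by rw [hea, one_mul]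
      _ = e * (σ a * σ (σ k)) := by ring
      _ = k := h1
  · rw [hα1 v hv, hσ]
  · rw [hβ1 w hw, hσe, he']
  · rw [hγ1 z hz, hγa, hσe, he', mul_assoc]

end Geo

end Cfsg.Agent.H456.HM
end

-- part: H456/HM/Dich
section
/-!
# S5175, T12: the action of `S ∖ T` on `Z` (helper456)
-/

set_option autoImplicit false

namespace Cfsg.Agent.H456.HM

open Cfsg Cfsg.FusionSystem Cfsg.Agent.H756.HM Cfsg.Agent.H802

variable {Ω : Type*} [Group Ω] {K : Type} [Field K] {S T V W D : Subgroup Ω} {mu lam zet : Ω → K}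

/-- the index of `D` in `Z` -/
theorem Crd.card_Z (h : Crd K V W D mu lam zet) [Fintype K] :
    Fintype.card K * Nat.card D = Nat.card ↥(V ⊓ W) := by
  let μ : ↥(V ⊓ W) →* Multiplicative K :=
    { toFun := fun v => Multiplicative.ofAdd (zet v)
      map_one' := by
        show Multiplicative.ofAdd (zet 1) = 1
        rw [h.zet_one]; rfl
      map_mul' := fun v v' => by
        show Multiplicative.ofAdd (zet (v * v')) = _
        rw [h.zet_mul v v.2 v' v'.2]; rfl }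
  have hμ : Function.Surjective μ := by
    intro k
    obtain ⟨v, hv, hv'⟩ := h.zet_surj (Multiplicative.toAdd k)
    exact ⟨⟨v, hv⟩, congrArg Multiplicative.ofAdd hv'⟩
  have h4 := Subgroup.card_mul_index μ.ker
  rw [Subgroup.index_ker, MonoidHom.range_eq_top.2 hμ, Subgroup.card_top, Nat.card_congr Multiplicative.toAdd,
    Nat.card_eq_fintype_card (α := K)] at h4
  have h5 : μ.ker = D.subgroupOf (V ⊓ W) := by
    ext v
    rw [MonoidHom.mem_ker, Subgroup.mem_subgroupOf, ← h.zet_zero v v.2]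
    exact ofAdd_eq_one
  rw [h5, Nat.card_congr (Subgroup.subgroupOfEquivOfLe h.D_le).toEquiv, mul_comm] at h4
  exact h4

namespace Geo

variable (g : Geo K S T V W D mu lam zet)

include g

theorem zet_inj (hD : D = ⊥) {z z' : Ω} (hz : z ∈ V ⊓ W) (hz' : z' ∈ V ⊓ W) (hzz : zet z = zet z') : z = z' := by
  have h := g.crd
  have h1 : z * z' ∈ D := by
    rw [← h.zet_zero _ ((V ⊓ W).mul_mem hz hz'), h.zet_mul _ hz _ hz', hzz, h.add_self]
  rw [hD, Subgroup.mem_bot] at h1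
  have h2 := eq_inv_of_mul_eq_one_left h1
  rw [h2, g.invZ hz']

/-- an element of `S ∖ T` centralizing `Z` -/
theorem triv_case (hD : D = ⊥) {b : Ω} (hb : b ∈ S) (hbT : b ∉ T) (hc : ∀ z ∈ V ⊓ W, b * z * b⁻¹ = z) :
    ∃ a : K, a ≠ 0 ∧ ∀ v ∈ V, lam (b * v * b⁻¹) = a * mu v := by
  obtain ⟨σ, a, ha, -, hσ, -, hz⟩ := g.semi hD hb hbT
  have h1 : ∀ k, k = a * (σ a)⁻¹ * σ k := by
    intro k
    obtain ⟨z, hz1, hz2⟩ := g.crd.zet_surj k
    have h2 := hz z hz1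
    rwa [hc z hz1, hz2] at h2
  have h2 : a * (σ a)⁻¹ = 1 := by
    have := h1 1
    rw [map_one, mul_one] at this
    exact this.symm
  refine ⟨a, ha, fun v hv => ?_⟩
  rw [hσ v hv]
  congr 1
  have h3 := h1 (mu v)
  rw [h2, one_mul] at h3
  exact h3.symm

/-- an element of `S ∖ T` not centralizing `Z` -/
theorem ne_case (hD : D = ⊥) {b : Ω} (hb : b ∈ S) (hbT : b ∉ T) (hc : ∃ z ∈ V ⊓ W, b * z * b⁻¹ ≠ z) :
    ∃ (σ : K →+* K) (a : K), a ≠ 0 ∧ (∀ k, σ (σ k) = k) ∧ (∃ k, σ k ≠ k) ∧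
      (∀ v ∈ V, lam (b * v * b⁻¹) = a * σ (mu v)) ∧ ∀ z ∈ V ⊓ W, zet (b * z * b⁻¹) = a * (σ a)⁻¹ * σ (zet z) := by
  obtain ⟨σ, a, ha, hσσ, hσ, -, hz⟩ := g.semi hD hb hbT
  refine ⟨σ, a, ha, hσσ, ?_, hσ, hz⟩
  by_contra hno
  push Not at hno
  obtain ⟨z, hz1, hz2⟩ := hc
  apply hz2
  apply g.zet_inj hD (g.normZ hb hz1) hz1
  rw [hz z hz1, hno, hno, mul_inv_cancel₀ ha, one_mul]

/-- `[Z, b] = C_Z(b)` -/
theorem surj_of_ne [Fintype K] [Finite S] (hVS : V ≤ S) (typ : D = ⊥ ∨ Nat.card D = Fintype.card K) {b : Ω}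
    (hb : b ∈ S) (hbT : b ∉ T)
    (hc : ∃ z ∈ V ⊓ W, b * z * b⁻¹ ≠ z) {c : Ω} (hcZ : c ∈ V ⊓ W) (hcb : b * c * b⁻¹ = c) :
    ∃ z ∈ V ⊓ W, z * (b * z * b⁻¹) = c := by
  have h := g.crd
  rcases typ with hD | hD
  · obtain ⟨σ, a, ha, hσσ, ⟨k₀, hk₀⟩, -, hz⟩ := g.ne_case hD hb hbT hc
    have hσa : σ a ≠ 0 := (map_ne_zero σ).2 ha
    set f := zet c with hf
    have h1 : a * (σ a)⁻¹ * σ f = f := by rw [hf, ← hz c hcZ, hcb]
    set t₀ := k₀ + σ k₀ with ht₀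
    have ht0 : t₀ ≠ 0 := fun h2 => hk₀ (h.eq_of_add h2).symm
    have hσt : σ t₀ = t₀ := by rw [ht₀, map_add, hσσ, add_comm]
    obtain ⟨z, hz1, hz2⟩ := h.zet_surj (f * k₀ / t₀)
    refine ⟨z, hz1, ?_⟩
    apply g.zet_inj hD ((V ⊓ W).mul_mem hz1 (g.normZ hb hz1)) hcZ
    rw [h.zet_mul _ hz1 _ (g.normZ hb hz1), hz z hz1, hz2, ← hf, map_div₀, map_mul, hσt]
    have h2 : a * (σ a)⁻¹ * (σ f * σ k₀ / t₀) = f * σ k₀ / t₀ := by
      rw [← mul_div_assoc, ← mul_assoc, h1]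
    rw [h2, ← add_div, ← mul_add, ← ht₀, mul_div_assoc, div_self ht0, mul_one]
  · -- `Z = D × D^b`
    have hfZ : Finite ↥(V ⊓ W) := finite_of_le (inf_le_left.trans hVS)
    have hDZ := h.D_le
    let φ : D × D → ↥(V ⊓ W) := fun p => ⟨p.1 * (b * p.2 * b⁻¹),
      (V ⊓ W).mul_mem (hDZ p.1.2) (g.normZ hb (hDZ p.2.2))⟩
    have hfD : Finite D := finite_of_le (hDZ.trans (inf_le_left.trans hVS))
    have hinj : Function.Injective φ := by
      rintro ⟨d, e⟩ ⟨d', e'⟩ h1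
      have h2 : (d : Ω) * (b * e * b⁻¹) = d' * (b * e' * b⁻¹) := congrArg Subtype.val h1
      have h3 : b * ((e : Ω) * (e' : Ω)⁻¹) * b⁻¹ = (d : Ω)⁻¹ * d' := by
        calc b * ((e : Ω) * (e' : Ω)⁻¹) * b⁻¹ = (d : Ω)⁻¹ * (d * (b * e * b⁻¹)) * (b * e' * b⁻¹)⁻¹ := by group
          _ = (d : Ω)⁻¹ * (d' * (b * e' * b⁻¹)) * (b * e' * b⁻¹)⁻¹ := by rw [h2]
          _ = (d : Ω)⁻¹ * d' := by group
      have h4 := g.DD b hb hbT _ (D.mul_mem e.2 (D.inv_mem e'.2)) (by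
        rw [h3]; exact D.mul_mem (D.inv_mem d.2) d'.2)
      rw [h4] at h3
      have h5 : (e : Ω) = e' := mul_inv_eq_one.1 h4
      have h6 : (d : Ω)⁻¹ * d' = 1 := by rw [← h3]; group
      exact Prod.ext (Subtype.ext (inv_mul_eq_one.1 h6)) (Subtype.ext h5)
    have hbij : Function.Bijective φ := by
      rw [Nat.bijective_iff_injective_and_card]
      refine ⟨hinj, ?_⟩
      rw [Nat.card_prod, ← h.card_Z, hD]
    obtain ⟨⟨d, e⟩, hde⟩ := hbij.2 ⟨c, hcZ⟩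
    have h1 : (d : Ω) * (b * e * b⁻¹) = c := congrArg Subtype.val hde
    -- `c^b = c`
    have h2 : b * c * b⁻¹ = e * (b * d * b⁻¹) := by
      have h3 := g.act_sq hb hbT (hDZ e.2)
      calc b * c * b⁻¹ = (b * d * b⁻¹) * (b * (b * e * b⁻¹) * b⁻¹) := by rw [← h1]; group
        _ = (b * d * b⁻¹) * e := by rw [h3]
        _ = e * (b * d * b⁻¹) := g.cenZ (hDZ e.2) (g.ZT (g.normZ hb (hDZ d.2)))
    have h3 : φ (d, e) = φ (e, d) := Subtype.ext (by
      show (d : Ω) * (b * e * b⁻¹) = e * (b * d * b⁻¹)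
      rw [h1, ← h2, hcb])
    have h4 := hinj h3
    have h5 : d = e := congrArg Prod.fst h4
    refine ⟨d, hDZ d.2, ?_⟩
    rw [← h1, ← h5]

/-- `C_Z(b)` -/
def ZS (_ : Geo K S T V W D mu lam zet) (b : Ω) : Subgroup Ω := V ⊓ W ⊓ Subgroup.centralizer {b}

omit g in
theorem mem_ZS (g : Geo K S T V W D mu lam zet) {b z : Ω} : z ∈ g.ZS b ↔ z ∈ V ⊓ W ∧ b * z * b⁻¹ = z := by
  unfold ZS
  rw [Subgroup.mem_inf, Subgroup.mem_centralizer_singleton_iff]
  constructor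
  · rintro ⟨h1, h2⟩
    exact ⟨h1, by rw [← h2, mul_inv_cancel_right]⟩
  · rintro ⟨h1, h2⟩
    refine ⟨h1, ?_⟩
    nth_rewrite 1 [← h2]
    group

/-- `z z^b` is centralized by `b` -/
theorem zz_mem {b z : Ω} (hb : b ∈ S) (hbT : b ∉ T) (hz : z ∈ V ⊓ W) : z * (b * z * b⁻¹) ∈ g.ZS b := by
  rw [g.mem_ZS]
  refine ⟨(V ⊓ W).mul_mem hz (g.normZ hb hz), ?_⟩
  have e : b * (z * (b * z * b⁻¹)) * b⁻¹ = (b * z * b⁻¹) * (b * (b * z * b⁻¹) * b⁻¹) := by group
  rw [e, g.act_sq hb hbT hz, g.cenZ hz (g.ZT (g.normZ hb hz))]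

/-- `|Z| = |C_Z(b)|²` -/
theorem card_sq [Fintype K] [Finite S] (hVS : V ≤ S) (typ : D = ⊥ ∨ Nat.card D = Fintype.card K) {b : Ω}
    (hb : b ∈ S) (hbT : b ∉ T) (hc : ∃ z ∈ V ⊓ W, b * z * b⁻¹ ≠ z) :
    Nat.card ↥(V ⊓ W) = Nat.card (g.ZS b) * Nat.card (g.ZS b) := by
  have hfZ : Finite ↥(V ⊓ W) := finite_of_le (inf_le_left.trans hVS)
  have hle : g.ZS b ≤ V ⊓ W := inf_le_left
  let φ : ↥(V ⊓ W) →* ↥(V ⊓ W) :=
    { toFun := fun z => ⟨z * (b * z * b⁻¹), (V ⊓ W).mul_mem z.2 (g.normZ hb z.2)⟩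
      map_one' := Subtype.ext (by
        show (1 : Ω) * (b * 1 * b⁻¹) = 1
        group)
      map_mul' := fun z z' => Subtype.ext (by
        show (z : Ω) * z' * (b * (z * z') * b⁻¹) = z * (b * z * b⁻¹) * (z' * (b * z' * b⁻¹))
        have h1 := g.cenZ z'.2 (g.ZT (g.normZ hb z.2))
        have e : b * ((z : Ω) * z') * b⁻¹ = (b * z * b⁻¹) * (b * z' * b⁻¹) := by group
        rw [e]
        calc (z : Ω) * z' * ((b * z * b⁻¹) * (b * z' * b⁻¹)) = z * (z' * (b * z * b⁻¹)) * (b * z' * b⁻¹) := by group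
          _ = z * ((b * z * b⁻¹) * z') * (b * z' * b⁻¹) := by rw [h1]
          _ = _ := by group) }
  have hker : φ.ker = (g.ZS b).subgroupOf (V ⊓ W) := by
    ext z
    rw [MonoidHom.mem_ker, Subgroup.mem_subgroupOf, g.mem_ZS]
    constructor
    · intro h1
      have h2 : (z : Ω) * (b * z * b⁻¹) = 1 := congrArg Subtype.val h1
      refine ⟨z.2, ?_⟩
      rw [← g.invZ (g.normZ hb z.2)]
      exact (eq_inv_of_mul_eq_one_left h2).symm
    · rintro ⟨-, h1⟩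
      apply Subtype.ext
      show (z : Ω) * (b * z * b⁻¹) = 1
      rw [h1]
      exact g.crd.elV _ z.2.1
  have hran : φ.range = (g.ZS b).subgroupOf (V ⊓ W) := by
    ext z
    rw [MonoidHom.mem_range, Subgroup.mem_subgroupOf]
    constructor
    · rintro ⟨y, rfl⟩
      exact g.zz_mem hb hbT y.2
    · intro h1
      obtain ⟨y, hy, hy'⟩ := g.surj_of_ne hVS typ hb hbT hc z.2 (g.mem_ZS.1 h1).2
      exact ⟨⟨y, hy⟩, Subtype.ext hy'⟩
  have h1 := Subgroup.card_mul_index φ.ker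
  rw [Subgroup.index_ker, hker, hran, Nat.card_congr (Subgroup.subgroupOfEquivOfLe hle).toEquiv] at h1
  exact h1.symm

/-- `Δ ≤ Z C_T(y)` for an involution `y ∈ S ∖ T` not centralizing `Z` -/
theorem exists_fix [Fintype K] [Finite S] (hVS : V ≤ S) (typ : D = ⊥ ∨ Nat.card D = Fintype.card K) {y : Ω}
    (hy : y ∈ S) (hyT : y ∉ T) (hyy : y * y = 1) (hc : ∃ z ∈ V ⊓ W, y * z * y⁻¹ ≠ z) {t : Ω} (ht : t ∈ g.Del) :
    ∃ z ∈ V ⊓ W, y * (t * z) * y⁻¹ = t * z := by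
  have hyi : y⁻¹ = y := inv_eq_of_mul_eq_one_left hyy
  obtain ⟨u, hu⟩ : ∃ u, u = t * y * t⁻¹ * y⁻¹ := ⟨_, rfl⟩
  have huZ : u ∈ V ⊓ W := by rw [hu]; exact ht.2 y hy
  have hyu : y * u * y⁻¹ = u := by
    have e1 : y * u * y⁻¹ = u⁻¹ := by
      have e2 : u⁻¹ = y * t * y⁻¹ * t⁻¹ := by rw [hu]; group
      rw [e2, hu]
      have e3 : y * (t * y * t⁻¹ * y⁻¹) * y⁻¹ = y * t * y * t⁻¹ * (y * y)⁻¹ := by group
      rw [e3, hyy, inv_one, mul_one, hyi]
    rw [e1, g.invZ huZ]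
  obtain ⟨z, hz, hzz⟩ := g.surj_of_ne hVS typ hy hyT hc huZ hyu
  refine ⟨z, hz, ?_⟩
  have e1 : y * t * y⁻¹ = u⁻¹ * t := by rw [hu]; group
  have e2 : y * z * y⁻¹ = z⁻¹ * u := by rw [← hzz]; group
  have e3 : y * (t * z) * y⁻¹ = (y * t * y⁻¹) * (y * z * y⁻¹) := by group
  have h1 := g.cenZ huZ ht.1
  rw [e3, e1, e2, g.invZ hz, g.invZ huZ, ← mul_assoc, mul_assoc u t z, g.cenZ hz ht.1, ← mul_assoc,
    mul_assoc (u * z) t u, h1, ← mul_assoc, mul_assoc u z u, ← g.cenZ hz (g.ZT huZ), ← mul_assoc,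
    g.crd.elV u huZ.1, one_mul]

end Geo

end Cfsg.Agent.H456.HM
end

-- part: H456/HM/EssB
section
/-!
# S5175, T12: essential subgroups not in `T` (helper456)

`no_central` : such a subgroup has no central involution outside `T`.
-/

set_option autoImplicit false

namespace Cfsg.Agent.H456.HM

open Cfsg Cfsg.FusionSystem Cfsg.Agent.H756.HM Cfsg.Agent.H802

variable {Ω : Type*} [Group Ω] {K : Type} [Field K] {S T V W D : Subgroup Ω} {mu lam zet : Ω → K}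

namespace Geo

variable (g : Geo K S T V W D mu lam zet)

include g

theorem ZS_indep {b c z : Ω} (hb : b ∈ S) (hbT : b ∉ T) (hc : c ∈ S) (hcT : c ∉ T) (hz : z ∈ g.ZS b) : z ∈ g.ZS c := by
  rw [g.mem_ZS] at hz ⊢
  exact ⟨hz.1, by rw [← hz.2, ← g.act_eq hb hbT hc hcT (by rw [hz.2]; exact hz.1), hz.2, hz.2]⟩

/-- `C_Z(b)` is central in `S` -/
theorem ZS_cent {b z s : Ω} (hb : b ∈ S) (hbT : b ∉ T) (hz : z ∈ g.ZS b) (hs : s ∈ S) : s * z = z * s := by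
  by_cases hsT : s ∈ T
  · exact g.cenZ (g.mem_ZS.1 hz).1 hsT
  · have h1 := (g.mem_ZS.1 (g.ZS_indep hb hbT hs hsT hz)).2
    nth_rewrite 2 [← h1]
    group

/-- involutions of `T` centralized by an element of `S ∖ T` -/
theorem inv_cent {b w : Ω} (hb : b ∈ S) (hbT : b ∉ T) (hw : w ∈ T) (hww : w * w = 1) (hc : b * w * b⁻¹ = w) :
    w ∈ g.ZS b := by
  rw [g.mem_ZS]
  refine ⟨?_, hc⟩
  rcases g.crd.inv_mem (g.mT hw) hww with h1 | h1
  · exact ⟨h1, by rw [← hc]; exact (g.sw b hb hbT).a1 w h1⟩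
  · exact ⟨by rw [← hc]; exact (g.sw b hb hbT).a2 w h1, h1⟩

/-- `C_Z(b) ≠ 1` -/
theorem exists_ZS [Fintype K] {b : Ω} (hb : b ∈ S) (hbT : b ∉ T) : ∃ z ∈ g.ZS b, z ≠ 1 := by
  obtain ⟨z, hz, hz1⟩ := g.crd.zet_surj 1
  have hzne : z ≠ 1 := by
    rintro rfl
    rw [g.crd.zet_one] at hz1
    exact one_ne_zero hz1.symm
  by_cases h1 : z * (b * z * b⁻¹) = 1
  · refine ⟨z, g.mem_ZS.2 ⟨hz, ?_⟩, hzne⟩
    rw [← g.invZ (g.normZ hb hz)]
    exact (eq_inv_of_mul_eq_one_left h1).symm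
  · exact ⟨_, g.zz_mem hb hbT hz, h1⟩

theorem exists_sq [Fintype K] (k : K) : ∃ m : K, m * m = k := by
  have hinj : Function.Injective (fun m : K => m * m) := by
    intro m n hmn
    have h1 : m * m = n * n := hmn
    have h2 : (m + n) * (m + n) = 0 := by linear_combination h1 + n * (m + n) * g.crd.two
    exact g.crd.eq_of_add (mul_self_eq_zero.1 h2)
  exact (Finite.injective_iff_surjective.1 hinj) k

theorem D_bot_of_triv {b : Ω} (hb : b ∈ S) (hbT : b ∉ T) (hc : ∀ z ∈ V ⊓ W, b * z * b⁻¹ = z) : D = ⊥ := by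
  rw [eq_bot_iff]
  intro d hd
  rw [Subgroup.mem_bot]
  exact g.DD b hb hbT d hd (by rw [hc d (g.crd.D_le hd)]; exact hd)

/-- **The transvections**: for `c ∈ C_Z(y)`, an element `u ∈ S` with `[u, y] = c`. -/
theorem exists_tv [Fintype K] [Finite S] (hVS : V ≤ S) (typ : D = ⊥ ∨ Nat.card D = Fintype.card K) {y c : Ω}
    (hy : y ∈ S) (hyT : y ∉ T) (hyy : y * y = 1) (hc : c ∈ g.ZS y) :
    ∃ u ∈ T, u * y * u⁻¹ = c * y ∧ u * u ∈ g.ZS y ∧ ∀ r ∈ S, u * r * u⁻¹ * r⁻¹ ∈ g.ZS y := by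
  obtain ⟨hcZ, hcy⟩ := g.mem_ZS.1 hc
  by_cases htriv : ∀ z ∈ V ⊓ W, y * z * y⁻¹ = z
  · -- `y` centralizes `Z`
    have hD := g.D_bot_of_triv hy hyT htriv
    have hZS : ∀ z ∈ V ⊓ W, z ∈ g.ZS y := fun z hz => g.mem_ZS.2 ⟨hz, htriv z hz⟩
    obtain ⟨a, ha, hlam⟩ := g.triv_case hD hy hyT htriv
    obtain ⟨m, hm⟩ := g.exists_sq (zet c / a)
    obtain ⟨v, hv, hvm⟩ := g.crd.mu_surj m
    have hv' := (g.sw y hy hyT).a1 v hv
    have hu := g.vv_mem hy hyT hv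
    refine ⟨v * (y * v * y⁻¹), hu.1, ?_, hZS _ (g.crd.sq_mem (g.mT hu.1)), fun r hr => hZS _ (hu.2 r hr)⟩
    have hyi : y⁻¹ = y := inv_eq_of_mul_eq_one_left hyy
    have e1 : y * (y * v * y⁻¹) * y⁻¹ = v := by
      have : y * (y * v * y⁻¹) * y⁻¹ = (y * y) * v * (y * y)⁻¹ := by group
      rw [this, hyy]
      group
    have e2 : v * (y * v * y⁻¹) * y * (v * (y * v * y⁻¹))⁻¹ * y⁻¹ =
        v * (y * v * y⁻¹) * (y * (y * v * y⁻¹) * y⁻¹)⁻¹ * (y * v * y⁻¹)⁻¹ := by group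
    rw [e1] at e2
    have e3 : v * (y * v * y⁻¹) * y * (v * (y * v * y⁻¹))⁻¹ * y⁻¹ = c := by
      rw [e2]
      apply g.zet_inj hD (g.crd.com v hv _ hv') hcZ
      rw [g.crd.zet_com v hv _ hv', hlam v hv, hvm]
      field_simp at hm
      linear_combination hm
    calc v * (y * v * y⁻¹) * y * (v * (y * v * y⁻¹))⁻¹ =
        v * (y * v * y⁻¹) * y * (v * (y * v * y⁻¹))⁻¹ * y⁻¹ * y := by group
      _ = c * y := by rw [e3]
  · push Not at htriv
    obtain ⟨u, hu, huc⟩ := g.surj_of_ne hVS typ hy hyT htriv hcZ hcy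
    have huy : u * y * u⁻¹ * y⁻¹ = c := by
      have e : u * y * u⁻¹ * y⁻¹ = u * (y * u * y⁻¹)⁻¹ := by group
      rw [e, g.invZ (g.normZ hy hu), huc]
    refine ⟨u, g.ZT hu, ?_, ?_, fun r hr => ?_⟩
    · rw [← huy]; group
    · rw [g.crd.elV u hu.1]
      exact (g.ZS y).one_mem
    · by_cases hrT : r ∈ T
      · have e : u * r * u⁻¹ * r⁻¹ = 1 := by rw [← g.cenZ hu hrT]; group
        rw [e]
        exact (g.ZS y).one_mem
      · have e : u * r * u⁻¹ * r⁻¹ = u * (r * u * r⁻¹)⁻¹ := by group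
        rw [e, g.invZ (g.normZ hr hu), g.act_eq hr hrT hy hyT hu, huc]
        exact hc

end Geo

theorem mem_norm {R : Subgroup Ω} [Finite R] {u : Ω} (h : ∀ r ∈ R, u * r * u⁻¹ ∈ R) :
    u ∈ Subgroup.normalizer (R : Set Ω) := by
  have hcj : cj u R = R := by
    apply Subgroup.eq_of_le_of_card_ge
    · rintro _ ⟨r, hr, rfl⟩
      exact h r hr
    · rw [card_cj]
  rw [Subgroup.mem_normalizer_iff]
  intro r
  refine ⟨h r, fun hr => ?_⟩
  rw [← hcj, mem_cj] at hr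
  have : u⁻¹ * (u * r * u⁻¹) * u = r := by group
  rwa [this] at hr

namespace Geo

variable (g : Geo K S T V W D mu lam zet)

include g

/-- **There is no central involution outside `T`.** -/
theorem no_central [Fintype K] [Finite S] (hS : IsPGroup 2 S) {F : FusionSystem S} (hF : F.IsSaturated 2)
    (hq : 4 ≤ Fintype.card K) (hVS : V ≤ S) (typ : D = ⊥ ∨ Nat.card D = Fintype.card K) {R : Subgroup Ω}
    (hR : F.IsEssential 2 R) {y : Ω} (hy : y ∈ R) (hyT : y ∉ T) (hyy : y * y = 1) (hyc : ∀ r ∈ R, r * y = y * r) :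
    False := by
  classical
  have h2 : Fact (Nat.Prime 2) := ⟨Nat.prime_two⟩
  have hRS := ess_le hR
  have hfR : Finite R := finite_of_le hRS
  have hyS := hRS hy
  have hyi : y⁻¹ = y := inv_eq_of_mul_eq_one_left hyy
  have hZSR : g.ZS y ≤ R := fun z hz => ess_cent hR (hVS (g.mem_ZS.1 hz).1.1) fun r hr =>
    (g.ZS_cent hyS hyT hz (hRS hr)).symm
  have hCI1 : ∀ w ∈ R, w * w = 1 → (∀ r ∈ R, r * w = w * r) → w ∈ T → w ∈ g.ZS y := by
    intro w hw hww hwc hwT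
    exact g.inv_cent hyS hyT hwT hww (by rw [hwc y hy, mul_inv_cancel_right])
  have inv : ∀ α ∈ F.autGroup R, ∀ r : R, (r : Ω) ∈ g.ZS y → ((α r : R) : Ω) ∈ g.ZS y := by
    by_contra hinv
    obtain ⟨M, hMX, hMne, hM⟩ := ess_odd hS hF hR
    obtain ⟨α, hα, hαM, s₁, hs₁, hαs₁⟩ : ∃ α ∈ F.autGroup R, α ∉ M ∧ ∃ s : R, (s : Ω) ∈ g.ZS y ∧
        ((α s : R) : Ω) ∉ g.ZS y := by
      by_contra hno
      push Not at hno
      apply hinv
      obtain ⟨α₀, hα₀, hα₀M⟩ := SetLike.exists_of_lt (lt_of_le_of_ne hMX hMne)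
      intro β hβ r hr
      by_cases hβM : β ∈ M
      · have h1 : α₀ * β ∉ M := fun h => hα₀M (by
          have := M.mul_mem h (M.inv_mem hβM)
          rwa [mul_inv_cancel_right] at this)
        have h3 : α₀⁻¹ ∉ M := fun h => hα₀M (by simpa using M.inv_mem h)
        have h4 := hno _ ((F.autGroup R).mul_mem hα₀ hβ) h1 r hr
        have h5 := hno _ ((F.autGroup R).inv_mem hα₀) h3 _ h4
        rw [MulAut.mul_apply, MulAut.inv_apply_self] at h5
        exact h5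
      · exact hno β hβ hβM r hr
    -- central involutions are preserved
    have hcen : ∀ r : R, (r : Ω) ∈ g.ZS y → ((α r : R) : Ω) * (α r : R) = 1 ∧
        ∀ r' ∈ R, r' * ((α r : R) : Ω) = (α r : R) * r' := by
      intro r hr
      refine ⟨?_, fun r' hr' => ?_⟩
      · have h4 : r * r = 1 := Subtype.ext (g.crd.elV r (g.mem_ZS.1 hr).1.1)
        have h5 := congrArg α h4
        rw [map_mul, map_one] at h5
        exact congrArg Subtype.val h5
      · have h4 : α⁻¹ ⟨r', hr'⟩ * r = r * α⁻¹ ⟨r', hr'⟩ := Subtype.ext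
          (g.ZS_cent hyS hyT hr (hRS (α⁻¹ ⟨r', hr'⟩).2))
        have h5 := congrArg α h4
        rw [map_mul, map_mul, MulAut.apply_inv_self] at h5
        exact congrArg Subtype.val h5
    have hy₁T : ((α s₁ : R) : Ω) ∉ T := fun h => hαs₁ (hCI1 _ (α s₁).2 (hcen s₁ hs₁).1 (hcen s₁ hs₁).2 h)
    by_cases hs : ∃ s : R, (s : Ω) ∈ g.ZS y ∧ s ≠ 1 ∧ ((α s : R) : Ω) ∈ g.ZS y
    · -- two transvections
      obtain ⟨s, hsZ, hs1, hαs⟩ := hs
      have hy₁S := hRS (α s₁).2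
      obtain ⟨u, huT, huy, huu, hur⟩ := g.exists_tv hVS typ hy₁S hy₁T (hcen s₁ hs₁).1
        (g.ZS_indep hyS hyT hy₁S hy₁T hαs)
      obtain ⟨u', hu'T, hu'y, hu'u, hu'r⟩ := g.exists_tv hVS typ hyS hyT hyy hsZ
      have huu' := g.ZS_indep hy₁S hy₁T hyS hyT huu
      have hn : ∀ r ∈ R, u * r * u⁻¹ ∈ R := by
        intro r hr
        have e : u * r * u⁻¹ = (u * r * u⁻¹ * r⁻¹) * r := by group
        rw [e]
        exact R.mul_mem (hZSR (g.ZS_indep hy₁S hy₁T hyS hyT (hur r (hRS hr)))) hr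
      have hn' : ∀ r ∈ R, u' * r * u'⁻¹ ∈ R := by
        intro r hr
        have e : u' * r * u'⁻¹ = (u' * r * u'⁻¹ * r⁻¹) * r := by group
        rw [e]
        exact R.mul_mem (hZSR (hu'r r (hRS hr))) hr
      obtain ⟨τ, hτ⟩ := exists_conjAut (mem_norm hn)
      obtain ⟨τ', hτ'⟩ := exists_conjAut (mem_norm hn')
      have hτS : τ ∈ autInducedBy S R := conj_mem_autInducedBy (g.T_le huT) hτ
      have hτ'S : τ' ∈ autInducedBy S R := conj_mem_autInducedBy (g.T_le hu'T) hτ'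
      have hc1 : ((α s : R) : Ω) ≠ 1 := fun h => hs1 (by
        have h3 : α s = 1 := Subtype.ext h
        exact (map_eq_one_iff α α.injective).1 h3)
      have hs1' : (s : Ω) ≠ 1 := fun h => hs1 (Subtype.ext h)
      have inn_fix : ∀ θ ∈ Inn R, ∀ w : R, (∀ r' ∈ R, r' * (w : Ω) = w * r') → θ w = w := by
        rintro _ ⟨ρ, rfl⟩ w hw
        apply Subtype.ext
        show (ρ : Ω) * w * (ρ : Ω)⁻¹ = w
        rw [hw _ ρ.2, mul_inv_cancel_right]
      have hτI : τ ∉ Inn R := by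
        intro h
        have h3 := inn_fix τ h (α s₁) (hcen s₁ hs₁).2
        have h4 := congrArg Subtype.val h3
        rw [hτ, huy] at h4
        exact hc1 (mul_eq_right.1 h4)
      have hτ'I : τ' ∉ Inn R := by
        intro h
        have h3 := inn_fix τ' h ⟨y, hy⟩ hyc
        have h4 := congrArg Subtype.val h3
        rw [hτ', hu'y] at h4
        exact hs1' (mul_eq_right.1 h4)
      have hττ : τ * τ ∈ Inn R := by
        refine ⟨⟨u * u, hZSR huu'⟩, MulEquiv.ext fun r => Subtype.ext ?_⟩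
        show u * u * r * (u * u)⁻¹ = ((τ (τ r) : R) : Ω)
        rw [hτ, hτ]
        group
      have hτ'τ' : τ' * τ' ∈ Inn R := by
        refine ⟨⟨u' * u', hZSR hu'u⟩, MulEquiv.ext fun r => Subtype.ext ?_⟩
        show u' * u' * r * (u' * u')⁻¹ = ((τ' (τ' r) : R) : Ω)
        rw [hτ', hτ']
        group
      obtain ⟨n, hn, hθ⟩ := hM α hα hαM τ hτS τ' hτ'S hτI hτ'I hττ hτ'τ'
      have hτ'Z : ∀ z : R, (z : Ω) ∈ g.ZS y → τ' z = z := by
        intro z hz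
        apply Subtype.ext
        rw [hτ', g.ZS_cent hyS hyT hz (g.T_le hu'T), mul_inv_cancel_right]
      have hθ1 : (τ * (α * τ' * α⁻¹)) (α s₁) = α s * α s₁ := by
        show τ (α (τ' (α⁻¹ (α s₁)))) = _
        rw [MulAut.inv_apply_self, hτ'Z s₁ hs₁]
        apply Subtype.ext
        rw [hτ, huy]
        rfl
      have hθ2 : (τ * (α * τ' * α⁻¹)) (α s) = α s := by
        show τ (α (τ' (α⁻¹ (α s)))) = _
        rw [MulAut.inv_apply_self, hτ'Z s hsZ]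
        apply Subtype.ext
        rw [hτ, g.ZS_cent hyS hyT hαs (g.T_le huT), mul_inv_cancel_right]
      have hpow : ∀ k : ℕ, ((τ * (α * τ' * α⁻¹)) ^ k) (α s₁) = (α s) ^ k * α s₁ := by
        intro k
        induction k with
        | zero => simp only [_root_.pow_zero, _root_.MulAut.one_apply, _root_.one_mul]
        | succ k ih =>
          rw [pow_succ', MulAut.mul_apply, ih, map_mul, map_pow, hθ2, hθ1, ← mul_assoc, ← pow_succ]
      have h3 := inn_fix _ hθ (α s₁) (hcen s₁ hs₁).2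
      rw [hpow] at h3
      have h4 : (α s) ^ n = 1 := mul_eq_right.1 h3
      obtain ⟨k, hk⟩ := hn
      have h5 : α s * α s = 1 := Subtype.ext (hcen s hsZ).1
      rw [hk, pow_succ, pow_mul, pow_two, h5, one_pow, one_mul] at h4
      exact hc1 (congrArg Subtype.val h4)
    · -- `|C_Z(y)| = 2`
      push Not at hs
      have honly : ∀ s : R, (s : Ω) ∈ g.ZS y → s = 1 ∨ s = s₁ := by
        intro s hsZ
        by_cases hs1 : s = 1
        · exact Or.inl hs1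
        right
        have h3 := hs s hsZ hs1
        have h4 : ((α s : R) : Ω) ∉ T := fun h => h3 (hCI1 _ (α s).2 (hcen s hsZ).1 (hcen s hsZ).2 h)
        have h5 : ((α (s * s₁) : R) : Ω) ∈ T := by
          rw [map_mul, Subgroup.coe_mul]
          exact g.mul _ (hRS (α s).2) h4 _ (hRS (α s₁).2) hy₁T
        have h6 : ((s * s₁ : R) : Ω) ∈ g.ZS y := (g.ZS y).mul_mem hsZ hs₁
        have h7 : s * s₁ = 1 := by
          by_contra h8
          exact hs _ h6 h8 (hCI1 _ (α _).2 (hcen _ h6).1 (hcen _ h6).2 h5)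
        have h8 : s₁ * s₁ = 1 := Subtype.ext (g.crd.elV s₁ (g.mem_ZS.1 hs₁).1.1)
        rw [eq_inv_of_mul_eq_one_left h7, inv_eq_of_mul_eq_one_left h8]
      have htriv : ∃ z ∈ V ⊓ W, y * z * y⁻¹ ≠ z := by
        by_contra hno
        push Not at hno
        obtain ⟨k, hk⟩ : ∃ k : K, k ∉ ({0, zet s₁} : Finset K) := by
          by_contra hno'
          push Not at hno'
          have h3 : (Finset.univ : Finset K) ⊆ {0, zet s₁} := fun k _ => hno' k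
          have h4 := (Finset.card_le_card h3).trans Finset.card_le_two
          rw [Finset.card_univ] at h4
          omega
        rw [Finset.mem_insert, Finset.mem_singleton, not_or] at hk
        obtain ⟨z, hz, hzk⟩ := g.crd.zet_surj k
        have hzZ : z ∈ g.ZS y := g.mem_ZS.2 ⟨hz, hno z hz⟩
        rcases honly ⟨z, hZSR hzZ⟩ hzZ with h3 | h3
        · have h4 : z = 1 := congrArg Subtype.val h3
          rw [h4, g.crd.zet_one] at hzk
          exact hk.1 hzk.symm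
        · have h4 : z = s₁ := congrArg Subtype.val h3
          rw [h4] at hzk
          exact hk.2 hzk.symm
      -- an element of `C_T(y)` outside `Z`
      obtain ⟨v, hv, hv1⟩ := g.crd.mu_surj 1
      obtain ⟨z, hz, hzy⟩ := g.exists_fix hVS typ hyS hyT hyy htriv (g.vv_mem hyS hyT hv)
      obtain ⟨t₁, ht₁⟩ : ∃ t₁, t₁ = v * (y * v * y⁻¹) * z := ⟨_, rfl⟩
      rw [← ht₁] at hzy
      have ht₁T : t₁ ∈ T := by
        rw [ht₁]
        exact T.mul_mem (g.vv_mem hyS hyT hv).1 (g.ZT hz)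
      have ht₁Z : t₁ ∉ V ⊓ W := by
        intro h3
        have h4 := ((g.crd.mem_Z_iff (g.mT ht₁T)).1 h3).1
        rw [ht₁, mul_assoc, g.crd.mh_eq hv (W.mul_mem ((g.sw y hyS hyT).a1 v hv) hz.2), hv1] at h4
        exact one_ne_zero h4
      have hrT : ∀ r ∈ R, r ∉ T → r * y ∈ T := fun r hr hrT => g.mul r (hRS hr) hrT y hyS hyT
      obtain ⟨t, htR, htT, htZ⟩ : ∃ t ∈ R, t ∈ T ∧ t ∉ V ⊓ W := by
        by_contra hno
        push Not at hno
        apply ht₁Z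
        have h3 : t₁ ∈ R := by
          refine ess_cent hR (g.T_le ht₁T) fun r hr => ?_
          by_cases h4 : r ∈ T
          · exact g.cenZ (hno r hr h4) ht₁T
          · have h5 := g.cenZ (hno _ (R.mul_mem hr hy) (hrT r hr h4)) ht₁T
            have h6 : t₁ * y = y * t₁ := by
              nth_rewrite 1 [← hzy]
              group
            have h7 : t₁ * r * y = r * t₁ * y := by
              rw [mul_assoc, h5, mul_assoc r y t₁, ← h6, ← mul_assoc]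
            exact mul_right_cancel h7
        exact hno t₁ h3 ht₁T
      have hyt : y * t * y⁻¹ = t := by rw [← hyc t htR, mul_inv_cancel_right]
      have htt : t * t ≠ 1 := by
        intro h3
        rcases g.crd.inv_mem (g.mT htT) h3 with h4 | h4
        · exact htZ ⟨h4, by rw [← hyt]; exact (g.sw y hyS hyT).a1 t h4⟩
        · exact htZ ⟨by rw [← hyt]; exact (g.sw y hyS hyT).a2 t h4, h4⟩
      have hsq : ∀ r ∈ R, r * r ∈ g.ZS y := by
        have key : ∀ r ∈ R, r ∈ T → r * r ∈ g.ZS y := by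
          intro r hr h3
          refine g.mem_ZS.2 ⟨g.crd.sq_mem (g.mT h3), ?_⟩
          rw [← hyc _ (R.mul_mem hr hr), mul_inv_cancel_right]
        intro r hr
        by_cases h3 : r ∈ T
        · exact key r hr h3
        · have h4 := key _ (R.mul_mem hr hy) (hrT r hr h3)
          have e : r * y * (r * y) = r * r * (y * y) := by
            calc r * y * (r * y) = r * (y * r) * y := by group
              _ = r * (r * y) * y := by rw [hyc r hr]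
              _ = r * r * (y * y) := by group
          rwa [e, hyy, mul_one] at h4
      have h3 := honly ⟨t * t, R.mul_mem htR htR⟩ (hsq t htR)
      have h4 : (⟨t * t, R.mul_mem htR htR⟩ : R) = s₁ := h3.resolve_left fun h => htt (congrArg Subtype.val h)
      apply hαs₁
      have h5 : α s₁ = α ⟨t, htR⟩ * α ⟨t, htR⟩ := by
        rw [← h4, ← map_mul]
        rfl
      rw [h5]
      exact hsq _ (α ⟨t, htR⟩).2
  -- the end
  obtain ⟨c, hc, hc1⟩ := g.exists_ZS hyS hyT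
  obtain ⟨u, huT, huy, -, hur⟩ := g.exists_tv hVS typ hyS hyT hyy hc
  have huR : u ∈ R := mem_of_chain3 hS hR (g.ZS y) (g.ZS y) le_rfl hZSR inv inv (g.T_le huT)
    (fun r hr => hur r (hRS hr))
    (fun z hz => by
      rw [g.ZS_cent hyS hyT hz (g.T_le huT)]
      have : z * u * u⁻¹ * z⁻¹ = 1 := by group
      rw [this]
      exact (g.ZS y).one_mem) (fun z hz => g.ZS_cent hyS hyT hz (g.T_le huT))
  rw [hyc u huR, mul_inv_cancel_right] at huy
  exact hc1 (mul_eq_right.1 huy.symm)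

end Geo

end Cfsg.Agent.H456.HM
end

-- part: H456/HM/EssC
section
/-!
# S5175, T12: essential subgroups not in `T` (helper456)

`Z_not_inv` : `Z` is not invariant under `Aut_F(R)`.
-/

set_option autoImplicit false

namespace Cfsg.Agent.H456.HM

open Cfsg Cfsg.FusionSystem Cfsg.Agent.H756.HM Cfsg.Agent.H802

variable {Ω : Type*} [Group Ω] {K : Type} [Field K] {S T V W D : Subgroup Ω} {mu lam zet : Ω → K}

namespace Geo

variable (g : Geo K S T V W D mu lam zet)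

include g

omit [Field K] g in
theorem comm_inv {a b : Ω} (hab : a * b * a⁻¹ * b⁻¹ ∈ V ⊓ W) : b * a * b⁻¹ * a⁻¹ ∈ V ⊓ W := by
  have e : b * a * b⁻¹ * a⁻¹ = (a * b * a⁻¹ * b⁻¹)⁻¹ := by group
  rw [e]
  exact (V ⊓ W).inv_mem hab

/-- the central involutions of `R` -/
theorem ZS_inv [Fintype K] [Finite S] (hS : IsPGroup 2 S) {F : FusionSystem S} (hF : F.IsSaturated 2)
    (hq : 4 ≤ Fintype.card K) (hVS : V ≤ S) (typ : D = ⊥ ∨ Nat.card D = Fintype.card K) {R : Subgroup Ω}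
    (hR : F.IsEssential 2 R) {b : Ω} (hb : b ∈ R) (hbT : b ∉ T) (α : MulAut R) (r : R) (hr : (r : Ω) ∈ g.ZS b) :
    ((α r : R) : Ω) ∈ g.ZS b := by
  have hRS := ess_le hR
  have h1 : ((α r : R) : Ω) * (α r : R) = 1 := by
    have h4 : r * r = 1 := Subtype.ext (g.crd.elV r (g.mem_ZS.1 hr).1.1)
    have h5 := congrArg α h4
    rw [map_mul, map_one] at h5
    exact congrArg Subtype.val h5
  have h2 : ∀ r' ∈ R, r' * ((α r : R) : Ω) = (α r : R) * r' := by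
    intro r' hr'
    have h4 : α⁻¹ ⟨r', hr'⟩ * r = r * α⁻¹ ⟨r', hr'⟩ := Subtype.ext
      (g.ZS_cent (hRS hb) hbT hr (hRS (α⁻¹ ⟨r', hr'⟩).2))
    have h5 := congrArg α h4
    rw [map_mul, map_mul, MulAut.apply_inv_self] at h5
    exact congrArg Subtype.val h5
  by_cases h3 : ((α r : R) : Ω) ∈ T
  · exact g.inv_cent (hRS hb) hbT h3 h1 (by rw [h2 b hb, mul_inv_cancel_right])
  · exact (g.no_central hS hF hq hVS typ hR (α r).2 h3 h1 h2).elim

/-- `Z ≤ R` -/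
theorem Z_le_R [Fintype K] [Finite S] (hS : IsPGroup 2 S) {F : FusionSystem S} (hF : F.IsSaturated 2)
    (hq : 4 ≤ Fintype.card K) (hVS : V ≤ S) (typ : D = ⊥ ∨ Nat.card D = Fintype.card K) {R : Subgroup Ω}
    (hR : F.IsEssential 2 R) {b : Ω} (hb : b ∈ R) (hbT : b ∉ T) : V ⊓ W ≤ R := by
  have h2 : Fact (Nat.Prime 2) := ⟨Nat.prime_two⟩
  have hRS := ess_le hR
  have hZSR : g.ZS b ≤ R := fun z hz => ess_cent hR (hVS (g.mem_ZS.1 hz).1.1) fun r hr =>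
    (g.ZS_cent (hRS hb) hbT hz (hRS hr)).symm
  have inv := fun (α : MulAut R) (_ : α ∈ F.autGroup R) (r : R) (hr : (r : Ω) ∈ g.ZS b) =>
    g.ZS_inv hS hF hq hVS typ hR hb hbT α r hr
  intro z hz
  refine mem_of_chain3 hS hR (g.ZS b) (g.ZS b) le_rfl hZSR inv inv (hVS hz.1) (fun r hr => ?_) (fun y hy => ?_)
    (fun y hy => ?_)
  · by_cases hrT : r ∈ T
    · have e : z * r * z⁻¹ * r⁻¹ = 1 := by rw [← g.cenZ hz hrT]; group
      rw [e]
      exact (g.ZS b).one_mem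
    · have e : z * r * z⁻¹ * r⁻¹ = z * (r * z * r⁻¹)⁻¹ := by group
      rw [e, g.invZ (g.normZ (hRS hr) hz), g.act_eq (hRS hr) hrT (hRS hb) hbT hz]
      exact g.zz_mem (hRS hb) hbT hz
  · rw [g.ZS_cent (hRS hb) hbT hy (hVS hz.1)]
    have : y * z * z⁻¹ * y⁻¹ = 1 := by group
    rw [this]
    exact (g.ZS b).one_mem
  · exact g.ZS_cent (hRS hb) hbT hy (hVS hz.1)

/-- **`Z` is not invariant.** -/
theorem Z_not_inv [Fintype K] [Finite S] (hS : IsPGroup 2 S) {F : FusionSystem S} (hF : F.IsSaturated 2)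
    (hq : 4 ≤ Fintype.card K) (hVS : V ≤ S) (typ : D = ⊥ ∨ Nat.card D = Fintype.card K) {R : Subgroup Ω}
    (hR : F.IsEssential 2 R) {b : Ω} (hb : b ∈ R) (hbT : b ∉ T)
    (inv : ∀ α ∈ F.autGroup R, ∀ r : R, (r : Ω) ∈ V ⊓ W → ((α r : R) : Ω) ∈ V ⊓ W) : False := by
  classical
  have h2 : Fact (Nat.Prime 2) := ⟨Nat.prime_two⟩
  have hRS := ess_le hR
  have hbS := hRS hb
  have hZR := g.Z_le_R hS hF hq hVS typ hR hb hbT
  -- `Δ ≤ R`
  have hDR : g.Del ≤ R := fun t ht => mem_of_chain3 hS hR (V ⊓ W) (V ⊓ W) le_rfl hZR inv inv (g.T_le ht.1)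
    (fun r hr => ht.2 r (hRS hr)) (fun z hz => by
      rw [g.cenZ hz ht.1]
      have : z * t * t⁻¹ * z⁻¹ = 1 := by group
      rw [this]
      exact (V ⊓ W).one_mem) (fun z hz => g.cenZ hz ht.1)
  -- `Δ` is invariant
  have invD : ∀ α ∈ F.autGroup R, ∀ r : R, (r : Ω) ∈ g.Del → ((α r : R) : Ω) ∈ g.Del := by
    by_cases hcase : ∃ t₁ ∈ R, t₁ ∈ T ∧ t₁ ∉ g.Del
    · obtain ⟨t₁, ht₁R, ht₁T, ht₁D⟩ := hcase
      intro α hα r hr
      have h3 : ∀ s ∈ R, ((α r : R) : Ω) * s * ((α r : R) : Ω)⁻¹ * s⁻¹ ∈ V ⊓ W := by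
        intro s hs
        have h4 := hr.2 _ (hRS (α⁻¹ ⟨s, hs⟩).2)
        have h5 := inv α hα (r * (α⁻¹ ⟨s, hs⟩) * r⁻¹ * (α⁻¹ ⟨s, hs⟩)⁻¹) h4
        rw [map_mul, map_mul, map_mul, map_inv, map_inv, MulAut.apply_inv_self] at h5
        exact h5
      by_cases h4 : ((α r : R) : Ω) ∈ T
      · exact g.mem_Del_of h4 hbS hbT (h3 b hb)
      · exact (ht₁D (g.mem_Del_of ht₁T (hRS (α r).2) h4 (comm_inv (h3 t₁ ht₁R)))).elim
    · push Not at hcase
      by_cases htriv : ∀ z ∈ V ⊓ W, b * z * b⁻¹ = z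
      · -- `b` centralizes `Z`
        have hD := g.D_bot_of_triv hbS hbT htriv
        have htriv' : ∀ c ∈ S, c ∉ T → ∀ z ∈ V ⊓ W, c * z * c⁻¹ = z := fun c hc hcT z hz => by
          rw [g.act_eq hc hcT hbS hbT hz, htriv z hz]
        by_cases hbb : b * b ∈ V ⊓ W
        · -- `b² ∈ Z`
          have habel : ∀ s ∈ g.Del, ∀ t ∈ g.Del, s * t = t * s := by
            obtain ⟨a, ha, hlam⟩ := g.triv_case hD hbS hbT htriv
            intro s hs t ht
            obtain ⟨v, hv, z, hz, rfl⟩ := g.exists_vv hbS hbT hs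
            obtain ⟨v', hv', z', hz', rfl⟩ := g.exists_vv hbS hbT ht
            have sv := (g.sw b hbS hbT).a1 v hv
            have sv' := (g.sw b hbS hbT).a1 v' hv'
            rw [mul_assoc v, mul_assoc v', g.crd.comm_iff hv (W.mul_mem sv hz.2) hv' (W.mul_mem sv' hz'.2)]
            apply g.zet_inj hD (g.crd.com _ hv _ (W.mul_mem sv' hz'.2)) (g.crd.com _ hv' _ (W.mul_mem sv hz.2))
            rw [g.crd.zet_com _ hv _ (W.mul_mem sv' hz'.2), g.crd.zet_com _ hv' _ (W.mul_mem sv hz.2),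
              g.crd.lam_mul _ sv' _ hz'.2, g.crd.lam_mul _ sv _ hz.2, (g.crd.lam_zero z' hz'.2).2 hz'.1,
              (g.crd.lam_zero z hz.2).2 hz.1, hlam v hv, hlam v' hv']
            ring
          intro α hα r hr
          by_contra hαr
          have hαrT : ((α r : R) : Ω) ∉ T := fun h => hαr (hcase _ (α r).2 h)
          have hαrS := hRS (α r).2
          -- squares outside `T`
          have hsq : ((α r : R) : Ω) * (α r : R) ∈ V ⊓ W := by
            have h3 : ((α r : R) : Ω) * b⁻¹ ∈ T := g.mul_inv hαrS hαrT hbS hbT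
            have h4 : ((α r : R) : Ω) * b⁻¹ ∈ g.Del := hcase _ (R.mul_mem (α r).2 (R.inv_mem hb)) h3
            obtain ⟨t, ht⟩ : ∃ t, t = ((α r : R) : Ω) * b⁻¹ := ⟨_, rfl⟩
            rw [← ht] at h3 h4
            have h5 : ((α r : R) : Ω) = t * b := by rw [ht]; group
            have h6 := h4.2 b hbS
            have h7 := g.crd.sq_mem (g.mT h3)
            rw [h5]
            have e : t * b * (t * b) = (t * (t * b * t⁻¹ * b⁻¹)⁻¹ * t⁻¹) * (t * t) * (b * b) := by group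
            rw [e, g.cenZ ((V ⊓ W).inv_mem h6) h3, mul_inv_cancel_right]
            exact (V ⊓ W).mul_mem ((V ⊓ W).mul_mem ((V ⊓ W).inv_mem h6) h7) hbb
          -- elements of `Δ` commuting with `α r`
          have hcomm : ∀ t ∈ g.Del, t * ((α r : R) : Ω) = (α r : R) * t → t ∈ V ⊓ W := by
            intro t ht htc
            obtain ⟨v, hv, z, hz, rfl⟩ := g.exists_vv hαrS hαrT ht
            obtain ⟨c, hc⟩ : ∃ c : Ω, c = (α r : R) := ⟨_, rfl⟩
            rw [← hc] at htc hsq hαrT hαrS ⊢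
            have sv := (g.sw c hαrS hαrT).a1 v hv
            have h3 : c * (v * (c * v * c⁻¹) * z) * c⁻¹ = v * (c * v * c⁻¹) * z := by
              rw [← htc, mul_inv_cancel_right]
            have h4 : c * (c * v * c⁻¹) * c⁻¹ = v := by
              have e : c * (c * v * c⁻¹) * c⁻¹ = c * c * v * (c * c)⁻¹ := by group
              rw [e, ← g.cenZ hsq (g.VT hv), mul_inv_cancel_right]
            have e : c * (v * (c * v * c⁻¹) * z) * c⁻¹ = (c * v * c⁻¹) * (c * (c * v * c⁻¹) * c⁻¹) * (c * z * c⁻¹) := by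
              group
            rw [e, h4, htriv' c hαrS hαrT z hz] at h3
            have h5 := mul_right_cancel h3
            rcases g.crd.comm_one hv sv h5.symm with h6 | h6
            · exact (V ⊓ W).mul_mem ((V ⊓ W).mul_mem ⟨hv, h6⟩ (g.normZ hαrS ⟨hv, h6⟩)) hz
            · have h7 : v ∈ W := by
                by_contra h8
                exact g.not_swap hαrS hαrT h8 h6
              exact (V ⊓ W).mul_mem ((V ⊓ W).mul_mem ⟨hv, h7⟩ (g.normZ hαrS ⟨hv, h7⟩)) hz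
          -- three elements
          have key : ∀ t : R, (t : Ω) ∈ g.Del → ((α t : R) : Ω) ∈ T → (t : Ω) ∈ V ⊓ W := by
            intro t ht htT
            have h3 : ((α t : R) : Ω) ∈ g.Del := hcase _ (α t).2 htT
            have h4 : α t * α r = α r * α t := by
              rw [← map_mul, ← map_mul]
              congr 1
              exact Subtype.ext (habel _ ht _ hr)
            have h5 := hcomm _ h3 (congrArg Subtype.val h4)
            have h6 := inv _ ((F.autGroup R).inv_mem hα) _ h5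
            rwa [MulAut.inv_apply_self] at h6
          obtain ⟨k, hk⟩ : ∃ k : K, k ∉ ({0, 1} : Finset K) := by
            by_contra hno'
            push Not at hno'
            have h3 : (Finset.univ : Finset K) ⊆ {0, 1} := fun k _ => hno' k
            have h4 := (Finset.card_le_card h3).trans Finset.card_le_two
            rw [Finset.card_univ] at h4
            omega
          rw [Finset.mem_insert, Finset.mem_singleton, not_or] at hk
          obtain ⟨v₁, hv₁, hk₁⟩ := g.crd.mu_surj 1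
          obtain ⟨v₂, hv₂, hk₂⟩ := g.crd.mu_surj k
          have hnz : ∀ v ∈ V, mu v ≠ 0 → v * (b * v * b⁻¹) ∉ V ⊓ W := by
            intro v hv hk0 h3
            have h4 := ((g.crd.mem_Z_iff (g.mT (g.vv_mem hbS hbT hv).1)).1 h3).1
            rw [g.crd.mh_eq hv ((g.sw b hbS hbT).a1 v hv)] at h4
            exact hk0 h4
          have m₁ := g.vv_mem hbS hbT hv₁
          have m₂ := g.vv_mem hbS hbT hv₂
          obtain ⟨t₁, ht₁⟩ : ∃ t₁ : R, (t₁ : Ω) = v₁ * (b * v₁ * b⁻¹) := ⟨⟨_, hDR m₁⟩, rfl⟩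
          obtain ⟨t₂, ht₂⟩ : ∃ t₂ : R, (t₂ : Ω) = v₂ * (b * v₂ * b⁻¹) := ⟨⟨_, hDR m₂⟩, rfl⟩
          rw [← ht₁] at m₁
          rw [← ht₂] at m₂
          have n₁ : ((α t₁ : R) : Ω) ∉ T := fun h3 => by
            have h4 := key t₁ m₁ h3
            rw [ht₁] at h4
            exact hnz v₁ hv₁ (by rw [hk₁]; exact one_ne_zero) h4
          have n₂ : ((α t₂ : R) : Ω) ∉ T := fun h3 => by
            have h4 := key t₂ m₂ h3
            rw [ht₂] at h4
            exact hnz v₂ hv₂ (by rw [hk₂]; exact hk.1) h4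
          have h3 : ((α (t₁ * t₂) : R) : Ω) ∈ T := by
            rw [map_mul]
            exact g.mul _ (hRS (α t₁).2) n₁ _ (hRS (α t₂).2) n₂
          have h4 := key _ (g.Del.mul_mem m₁ m₂) h3
          have h5 := ((g.crd.mem_Z_iff (g.mT (g.ZT h4))).1 h4).1
          rw [Subgroup.coe_mul, g.crd.mh_mul (g.mT m₁.1) (g.mT m₂.1), ht₁, ht₂,
            g.crd.mh_eq hv₁ ((g.sw b hbS hbT).a1 v₁ hv₁), g.crd.mh_eq hv₂ ((g.sw b hbS hbT).a1 v₂ hv₂), hk₁, hk₂] at h5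
          exact hk.2 (g.crd.eq_of_add h5).symm
        · -- `b² ∉ Z`
          intro α hα r hr
          by_contra hαr
          have hαrT : ((α r : R) : Ω) ∉ T := fun h => hαr (hcase _ (α r).2 h)
          have hαrS := hRS (α r).2
          have hsq : ((α r : R) : Ω) * (α r : R) ∈ V ⊓ W := inv α hα (r * r) (g.crd.sq_mem (g.mT hr.1)) |> fun h => by
            rwa [map_mul] at h
          apply hbb
          have h3 : ((α r : R) : Ω) * b⁻¹ ∈ T := g.mul_inv hαrS hαrT hbS hbT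
          have h4 : ((α r : R) : Ω) * b⁻¹ ∈ g.Del := hcase _ (R.mul_mem (α r).2 (R.inv_mem hb)) h3
          obtain ⟨t, ht⟩ : ∃ t, t = ((α r : R) : Ω) * b⁻¹ := ⟨_, rfl⟩
          rw [← ht] at h3 h4
          have h5 : ((α r : R) : Ω) = t * b := by rw [ht]; group
          have h6 := h4.2 b hbS
          have h7 := g.crd.sq_mem (g.mT h3)
          rw [h5] at hsq
          have e : b * b = (t * t)⁻¹ * (t * (t * b * t⁻¹ * b⁻¹) * t⁻¹) * (t * b * (t * b)) := by group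
          rw [e, g.cenZ h6 h3, mul_inv_cancel_right]
          exact (V ⊓ W).mul_mem ((V ⊓ W).mul_mem ((V ⊓ W).inv_mem h7) h6) hsq
      · -- `b` does not centralize `Z`
        push Not at htriv
        obtain ⟨z₁, hz₁, hbz⟩ := htriv
        intro α hα r hr
        by_contra hαr
        have hαrT : ((α r : R) : Ω) ∉ T := fun h => hαr (hcase _ (α r).2 h)
        have hαrS := hRS (α r).2
        apply hbz
        rw [g.act_eq hbS hbT hαrS hαrT hz₁]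
        have h3 := inv _ ((F.autGroup R).inv_mem hα) ⟨z₁, hZR hz₁⟩ hz₁
        have h4 : r * (α⁻¹ ⟨z₁, hZR hz₁⟩) = (α⁻¹ ⟨z₁, hZR hz₁⟩) * r := Subtype.ext (g.cenZ h3 hr.1)
        have h5 := congrArg α h4
        rw [map_mul, map_mul, MulAut.apply_inv_self] at h5
        have h6 : ((α r : R) : Ω) * z₁ = z₁ * (α r : R) := congrArg Subtype.val h5
        rw [h6, mul_inv_cancel_right]
  -- `T ≤ R`
  have hTR : ∀ t ∈ T, t ∈ R := fun t ht => mem_of_chain3 hS hR (V ⊓ W) g.Del (fun z hz => g.Z_le_Del hz) hDR inv invD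
    (g.T_le ht) (fun r hr => g.comm_Del (hRS hr) ht) (fun d hd => g.commTT ht hd.1) (fun z hz => g.cenZ hz ht)
  apply ne_of_isEssential hS hF hR
  refine le_antisymm hRS fun s hs => ?_
  by_cases hsT : s ∈ T
  · exact hTR s hsT
  · have h3 := hTR _ (g.mul_inv hs hsT hbS hbT)
    have := R.mul_mem h3 hb
    rwa [inv_mul_cancel_right] at this

end Geo

end Cfsg.Agent.H456.HM
end

-- part: H456/HM/Ess
section
/-!
# S5175, T12: `StEss` (helper456)
-/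

set_option autoImplicit false

namespace Cfsg.Agent.H456.HM

open Cfsg Cfsg.FusionSystem Cfsg.Agent.H756.HM Cfsg.Agent.H802

universe u

/-- the geometry of `Big` -/
theorem geo_of_big {Ω : Type*} [Group Ω] {S : Subgroup Ω} {F : FusionSystem S} {K : Type} [Field K] [Fintype K]
    {V T : Subgroup Ω} {x : Ω} [Finite S] (b : Big F K V T x) {mu lam zet : Ω → K}
    (h : Crd K V (cj x V) (fixS V b.E) mu lam zet) :
    Geo K S T V (cj x V) (fixS V b.E) mu lam zet := by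
  have c := b.toConf
  have hx := swp_of_conf b.toConf
  have hidx : ∀ a ∈ S, a ∉ T → x⁻¹ * a ∈ T := by
    have h1 : (T.subgroupOf S).index = 2 := b.S_idx
    intro a ha haT
    have h2 := Subgroup.mul_mem_iff_of_index_two h1 (a := ⟨x⁻¹, S.inv_mem b.x_mem⟩) (b := ⟨a, ha⟩)
    rw [Subgroup.mem_subgroupOf, Subgroup.mem_subgroupOf, Subgroup.mem_subgroupOf] at h2
    refine h2.2 ⟨fun h3 => (b.x_not ?_).elim, fun h3 => (haT h3).elim⟩
    have h4 : x⁻¹ ∈ T := h3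
    simpa using T.inv_mem h4
  have hsw : ∀ a ∈ S, a ∉ T → Swp a V (cj x V) := by
    intro a ha haT
    have h1 := hidx a ha haT
    constructor
    · intro v hv
      have h2 := hx.a1 _ (T_normV b.toConf h1 hv)
      have e : x * (x⁻¹ * a * v * (x⁻¹ * a)⁻¹) * x⁻¹ = a * v * a⁻¹ := by group
      rwa [e] at h2
    · intro w hw
      have h2 := hx.a2 _ (T_normW b.toConf h1 hw)
      have e : x * (x⁻¹ * a * w * (x⁻¹ * a)⁻¹) * x⁻¹ = a * w * a⁻¹ := by group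
      rwa [e] at h2
    · intro v hv
      have h2 := T_normW b.toConf (T.inv_mem h1) (hx.b1 _ hv)
      have e : (x⁻¹ * a)⁻¹ * (x⁻¹ * v * x) * (x⁻¹ * a)⁻¹⁻¹ = a⁻¹ * v * a := by group
      rwa [e] at h2
    · intro w hw
      have h2 := T_normV b.toConf (T.inv_mem h1) (hx.b2 _ hw)
      have e : (x⁻¹ * a)⁻¹ * (x⁻¹ * w * x) * (x⁻¹ * a)⁻¹⁻¹ = a⁻¹ * w * a := by group
      rwa [e] at h2
  refine ⟨h, b.T_eq, T_le b.toConf, ?_, fun s hs hsV => cenV b.toConf hs hsV, hsw, ?_⟩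
  · intro a ha haT c hc hcT
    have h1 := hidx a ha haT
    have h2 := hidx c hc hcT
    have e : a * c = (x * (x⁻¹ * a) * x⁻¹) * x ^ 2 * (x⁻¹ * c) := by rw [pow_two]; group
    rw [e]
    exact T.mul_mem (T.mul_mem (x_T b.toConf h1) b.x_sq) h2
  · intro a ha haT d hd hd'
    have h1 := hidx a ha haT
    apply DD_of_conf b.toConf d hd
    have hT : T = V ⊔ cj x V := b.T_eq
    have h3 := h.cenZ (h.D_le hd) (hT ▸ h1)
    have e : a * d * a⁻¹ = x * ((x⁻¹ * a) * d * (x⁻¹ * a)⁻¹) * x⁻¹ := by group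
    rwa [e, h3, mul_inv_cancel_right] at hd'

/-- **T12.** -/
theorem stEss : StEss.{u} := by
  classical
  intro Ω _ S _ hS F hF K _ _ V T x b R hR hRT
  have h2 : Fact (Nat.Prime 2) := ⟨Nat.prime_two⟩
  obtain ⟨mu, lam, zet, hc⟩ := exists_crd b.toConf
  have g := geo_of_big b hc
  set W := cj x V with hW
  set D := fixS V b.E with hDdef
  have hVS : V ≤ S := b.V_le
  have hq := b.q4
  have typ : D = ⊥ ∨ Nat.card D = Fintype.card K := b.typ.imp id fun h => h.1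
  have hRS := ess_le hR
  have hfR : Finite R := finite_of_le hRS
  obtain ⟨b₀, hb₀, hb₀T⟩ := SetLike.not_le_iff_exists.1 hRT
  have hb₀S := hRS hb₀
  have hZR := g.Z_le_R hS hF hq hVS typ hR hb₀ hb₀T
  obtain ⟨α, hα, z₀, hz₀, hαz₀⟩ : ∃ α ∈ F.autGroup R, ∃ z : R, (z : Ω) ∈ V ⊓ W ∧ ((α z : R) : Ω) ∉ V ⊓ W := by
    by_contra hno
    push Not at hno
    exact g.Z_not_inv hS hF hq hVS typ hR hb₀ hb₀T hno
  -- the involution `y = α z₀`
  obtain ⟨y, hy⟩ : ∃ y, y = ((α z₀ : R) : Ω) := ⟨_, rfl⟩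
  have hyR : y ∈ R := by rw [hy]; exact (α z₀).2
  have hyS := hRS hyR
  have hyy : y * y = 1 := by
    have h4 : z₀ * z₀ = 1 := Subtype.ext (hc.elV z₀ hz₀.1)
    have h5 := congrArg α h4
    rw [map_mul, map_one] at h5
    rw [hy]
    exact congrArg Subtype.val h5
  -- conjugates of `y` in `R` commute with `y`
  have hconj : ∀ r ∈ R, (r * y * r⁻¹) * y = y * (r * y * r⁻¹) := by
    intro r hr
    have h3 : (((α⁻¹ ⟨r, hr⟩) * z₀ * (α⁻¹ ⟨r, hr⟩)⁻¹ : R) : Ω) ∈ V ⊓ W := g.normZ (hRS (α⁻¹ ⟨r, hr⟩).2) hz₀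
    have h4 : ((α⁻¹ ⟨r, hr⟩) * z₀ * (α⁻¹ ⟨r, hr⟩)⁻¹) * z₀ = z₀ * ((α⁻¹ ⟨r, hr⟩) * z₀ * (α⁻¹ ⟨r, hr⟩)⁻¹) :=
      Subtype.ext (hc.commV h3.1 hz₀.1)
    have h5 := congrArg α h4
    simp only [map_mul, map_inv, MulAut.apply_inv_self] at h5
    have h6 := congrArg Subtype.val h5
    simp only [Subgroup.coe_mul, Subgroup.coe_inv, ← hy] at h6
    exact h6
  have hyZ : y ∉ V ⊓ W := by rw [hy]; exact hαz₀
  have hyT : y ∉ T := by
    intro hyT
    have sw := g.sw b₀ hb₀S hb₀T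
    have h3 := hconj b₀ hb₀
    rcases hc.inv_mem (g.mT hyT) hyy with h4 | h4
    · have h5 : y ∉ W := fun h => hyZ ⟨h4, h⟩
      rcases hc.comm_one h4 (sw.a1 _ h4) h3.symm with h6 | h6
      · exact h5 h6
      · exact g.not_swap hb₀S hb₀T h5 h6
    · have h5 : y ∉ V := fun h => hyZ ⟨h, h4⟩
      rcases hc.comm_one (sw.a2 _ h4) h4 h3 with h6 | h6
      · have h7 := sw.b2 _ h6
        have e : b₀⁻¹ * (b₀ * y * b₀⁻¹) * b₀ = y := by group
        rw [e] at h7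
        exact h5 h7
      · exact h5 h6
  -- central involutions
  have hZSinv := fun (β : MulAut R) (r : R) (hr : (r : Ω) ∈ g.ZS y) =>
    g.ZS_inv hS hF hq hVS typ hR hyR hyT β r hr
  have hne : ∃ z ∈ V ⊓ W, y * z * y⁻¹ ≠ z := by
    by_contra hno
    push Not at hno
    have h3 := hZSinv α z₀ (g.mem_ZS.2 ⟨hz₀, hno z₀ hz₀⟩)
    exact hαz₀ (g.mem_ZS.1 h3).1
  -- elements whose image under `α⁻¹` lies in `T`
  have hcomm : ∀ r : R, ((α⁻¹ r : R) : Ω) ∈ T → y * (r : Ω) * y⁻¹ = r := by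
    intro r hr
    have h4 : (α⁻¹ r) * z₀ = z₀ * (α⁻¹ r) := Subtype.ext (g.cenZ hz₀ hr)
    have h5 := congrArg α h4
    rw [map_mul, map_mul, MulAut.apply_inv_self] at h5
    have h6 : (r : Ω) * y = y * r := by rw [hy]; exact congrArg Subtype.val h5
    rw [← h6, mul_inv_cancel_right]
  have hZS2 : ∀ z ∈ V ⊓ W, z ∉ g.ZS y → ∀ r ∈ R, y * r * y⁻¹ = r ∨ y * (z * r) * y⁻¹ = z * r := by
    intro z hz hzZ r hr
    by_cases h3 : ((α⁻¹ ⟨r, hr⟩ : R) : Ω) ∈ T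
    · exact Or.inl (hcomm ⟨r, hr⟩ h3)
    · right
      have h4 : ((α⁻¹ ⟨z, hZR hz⟩ : R) : Ω) ∉ T := fun h => hzZ (g.mem_ZS.2 ⟨hz, hcomm ⟨z, hZR hz⟩ h⟩)
      have h5 := g.mul _ (hRS (α⁻¹ ⟨z, hZR hz⟩).2) h4 _ (hRS (α⁻¹ ⟨r, hr⟩).2) h3
      have h6 : ((α⁻¹ (⟨z, hZR hz⟩ * ⟨r, hr⟩) : R) : Ω) ∈ T := by
        rw [map_mul]
        exact h5
      exact hcomm _ h6
  obtain ⟨z₁, hz₁, hyz₁⟩ := hne
  have hz₁Z : z₁ ∉ g.ZS y := fun h => hyz₁ (g.mem_ZS.1 h).2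
  have hne : ∃ z ∈ V ⊓ W, y * z * y⁻¹ ≠ z := ⟨z₁, hz₁, hyz₁⟩
  -- orders
  have hfZ : Finite ↥(V ⊓ W) := finite_of_le (inf_le_left.trans hVS)
  have hcsq := g.card_sq hVS typ hyS hyT hne
  have hidx : ((g.ZS y).subgroupOf (V ⊓ W)).index = 2 := by
    rw [Subgroup.index_eq_two_iff]
    refine ⟨⟨z₁, hz₁⟩, fun a => ?_⟩
    by_cases h3 : (a : Ω) ∈ g.ZS y
    · refine Or.inr ⟨h3, fun h4 => hz₁Z ?_⟩
      have h5 : (a : Ω) * z₁ ∈ g.ZS y := h4
      have := (g.ZS y).mul_mem ((g.ZS y).inv_mem h3) h5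
      rwa [inv_mul_cancel_left] at this
    · refine Or.inl ⟨?_, h3⟩
      show (a : Ω) * z₁ ∈ g.ZS y
      rcases hZS2 z₁ hz₁ hz₁Z a (hZR a.2) with h4 | h4
      · exact (h3 (g.mem_ZS.2 ⟨a.2, h4⟩)).elim
      · rw [hc.commV a.2.1 hz₁.1]
        exact g.mem_ZS.2 ⟨(V ⊓ W).mul_mem hz₁ a.2, h4⟩
  have hc2 := Subgroup.card_mul_index ((g.ZS y).subgroupOf (V ⊓ W))
  have hZSle : g.ZS y ≤ V ⊓ W := fun z hz => (g.mem_ZS.1 hz).1
  rw [hidx, Nat.card_congr (Subgroup.subgroupOfEquivOfLe hZSle).toEquiv] at hc2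
  have hcZ := hc.card_Z
  have hfZS : Finite (g.ZS y) := finite_of_le (inf_le_left.trans (inf_le_left.trans hVS))
  have hpos : 0 < Nat.card (g.ZS y) := Nat.card_pos
  have hZS_card : Nat.card (g.ZS y) = 2 := by
    have h3 : Nat.card (g.ZS y) * 2 = Nat.card (g.ZS y) * Nat.card (g.ZS y) := hc2.trans hcsq
    exact (Nat.eq_of_mul_eq_mul_left hpos h3).symm
  have hZ_card : Nat.card ↥(V ⊓ W) = 4 := by rw [hcsq, hZS_card]
  have hfD : Finite D := finite_of_le (hc.D_le.trans (inf_le_left.trans hVS))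
  have hDpos : 0 < Nat.card D := Nat.card_pos
  have hDcard : Nat.card D = 1 := by
    rw [hZ_card] at hcZ
    nlinarith only [hq, hcZ]
  have hK4 : Fintype.card K = 4 := by rw [hZ_card, hDcard, mul_one] at hcZ; exact hcZ
  have hD : D = ⊥ := Subgroup.card_eq_one.1 hDcard
  -- `C_T(y) ≤ R`
  have hZSR : g.ZS y ≤ R := fun z hz => hZR (g.mem_ZS.1 hz).1
  have hCT : ∀ t ∈ T, y * t * y⁻¹ = t → t ∈ R := by
    intro t ht hyt
    have key : ∀ s ∈ R, y * s * y⁻¹ = s → t * s * t⁻¹ * s⁻¹ ∈ g.ZS y := by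
      have key1 : ∀ s ∈ T, y * s * y⁻¹ = s → t * s * t⁻¹ * s⁻¹ ∈ g.ZS y := by
        intro s hs hys
        refine g.mem_ZS.2 ⟨g.commTT ht hs, ?_⟩
        have e : y * (t * s * t⁻¹ * s⁻¹) * y⁻¹ = (y * t * y⁻¹) * (y * s * y⁻¹) * (y * t * y⁻¹)⁻¹ * (y * s * y⁻¹)⁻¹ := by
          group
        rw [e, hyt, hys]
      intro s hs hys
      by_cases hsT : s ∈ T
      · exact key1 s hsT hys
      · have h3 := key1 _ (g.mul_inv (hRS hs) hsT hyS hyT) (by
          have e : y * (s * y⁻¹) * y⁻¹ = (y * s * y⁻¹) * y⁻¹ := by group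
          rw [e, hys])
        have hyt' : t * y = y * t := by
          nth_rewrite 1 [← hyt]
          group
        have e : t * (s * y⁻¹) * t⁻¹ * (s * y⁻¹)⁻¹ = t * s * t⁻¹ * s⁻¹ := by
          have e1 : y⁻¹ * t⁻¹ = t⁻¹ * y⁻¹ := by rw [← mul_inv_rev, ← mul_inv_rev, hyt']
          calc t * (s * y⁻¹) * t⁻¹ * (s * y⁻¹)⁻¹ = t * s * (y⁻¹ * t⁻¹) * y * s⁻¹ := by group
            _ = t * s * (t⁻¹ * y⁻¹) * y * s⁻¹ := by rw [e1]
            _ = t * s * t⁻¹ * s⁻¹ := by group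
        rwa [e] at h3
    refine mem_of_chain3 hS hR (g.ZS y) (g.ZS y) le_rfl hZSR (fun β _ r hr => hZSinv β r hr)
      (fun β _ r hr => hZSinv β r hr) (g.T_le ht) (fun r hr => ?_) (fun z hz => ?_)
      (fun z hz => g.ZS_cent hyS hyT hz (g.T_le ht))
    · rcases hZS2 z₁ hz₁ hz₁Z r hr with h3 | h3
      · exact key r hr h3
      · have h4 := key _ (R.mul_mem (hZR hz₁) hr) h3
        have h5 := g.cenZ hz₁ ht
        have e : t * r * t⁻¹ * r⁻¹ = z₁⁻¹ * (t * (z₁ * r) * t⁻¹ * (z₁ * r)⁻¹) * z₁ := by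
          have e1 : t * z₁ * t⁻¹ = z₁ := by rw [h5, mul_inv_cancel_right]
          calc t * r * t⁻¹ * r⁻¹ = z₁⁻¹ * (z₁ * (t * r * t⁻¹ * r⁻¹)) := by group
            _ = z₁⁻¹ * ((t * z₁ * t⁻¹) * (t * r * t⁻¹ * r⁻¹)) := by rw [e1]
            _ = z₁⁻¹ * (t * (z₁ * r) * t⁻¹ * (z₁ * r)⁻¹) * z₁ := by group
        rw [e, mul_assoc, ← g.ZS_cent hyS hyT h4 (hVS hz₁.1), ← mul_assoc, inv_mul_cancel, one_mul]
        exact h4
    · rw [g.ZS_cent hyS hyT hz (g.T_le ht)]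
      have : z * t * t⁻¹ * z⁻¹ = 1 := by group
      rw [this]
      exact (g.ZS y).one_mem
  -- `R ∩ T = Δ`
  have hDR : g.Del ≤ R := by
    intro t ht
    obtain ⟨z, hz, hzt⟩ := g.exists_fix hVS typ hyS hyT hyy hne ht
    have h3 := hCT _ (T.mul_mem ht.1 (g.ZT hz)) hzt
    have := R.mul_mem h3 (R.inv_mem (hZR hz))
    rwa [mul_inv_cancel_right] at this
  have hRD : ∀ r ∈ R, r ∈ T → r ∈ g.Del := by
    have key : ∀ t ∈ T, y * t * y⁻¹ = t → t ∈ g.Del := by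
      intro t ht hyt
      refine g.mem_Del_of ht hyS hyT ?_
      have e : t * y * t⁻¹ * y⁻¹ = t * (y * t * y⁻¹)⁻¹ := by group
      rw [e, hyt, mul_inv_cancel]
      exact (V ⊓ W).one_mem
    intro r hr hrT
    rcases hZS2 z₁ hz₁ hz₁Z r hr with h3 | h3
    · exact key r hrT h3
    · have h4 := key _ (T.mul_mem (g.ZT hz₁) hrT) h3
      have := g.Del.mul_mem (g.Del.inv_mem (g.Z_le_Del hz₁)) h4
      rwa [inv_mul_cancel_left] at this
  have hRcard : Nat.card R = 32 := by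
    have h3 : g.Del.subgroupOf R = T.subgroupOf R := by
      ext r
      rw [Subgroup.mem_subgroupOf, Subgroup.mem_subgroupOf]
      exact ⟨fun h => h.1, fun h => hRD r r.2 h⟩
    have hidx2 : (T.subgroupOf R).index = 2 := by
      rw [Subgroup.index_eq_two_iff]
      refine ⟨⟨y, hyR⟩, fun a => ?_⟩
      by_cases h3 : (a : Ω) ∈ T
      · refine Or.inr ⟨h3, fun h4 => hyT ?_⟩
        have h5 : (a : Ω) * y ∈ T := h4
        have := T.mul_mem (T.inv_mem h3) h5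
        rwa [inv_mul_cancel_left] at this
      · exact Or.inl ⟨g.mul _ (hRS a.2) h3 y hyS hyT, h3⟩
    have h4 := Subgroup.card_mul_index (g.Del.subgroupOf R)
    rw [Nat.card_congr (Subgroup.subgroupOfEquivOfLe hDR).toEquiv, h3, hidx2, g.card_Del ⟨y, hyS, hyT⟩, hK4,
      hZ_card] at h4
    exact h4.symm
  refine ⟨hK4, hD, hRcard, hZR, ?_, ?_, α, hα, z₀, hz₀, ?_⟩
  · -- `S` normalizes `R`
    intro s hs
    apply mem_norm
    have key : ∀ t ∈ T, ∀ r ∈ R, t * r * t⁻¹ ∈ R := by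
      intro t ht r hr
      have e : t * r * t⁻¹ = (t * r * t⁻¹ * r⁻¹) * r := by group
      rw [e]
      exact R.mul_mem (hDR (g.comm_Del (hRS hr) ht)) hr
    intro r hr
    by_cases hsT : s ∈ T
    · exact key s hsT r hr
    · have h3 := key _ (g.mul_inv hs hsT hyS hyT) _ (R.mul_mem (R.mul_mem hyR hr) (R.inv_mem hyR))
      have e : s * y⁻¹ * (y * r * y⁻¹) * (s * y⁻¹)⁻¹ = s * r * s⁻¹ := by group
      rwa [e] at h3
  · -- the center
    have hcen : ∀ r : R, r ∈ Subgroup.center R ↔ (r : Ω) ∈ g.ZS y := by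
      intro r
      rw [Subgroup.mem_center_iff]
      constructor
      · intro hr
        have hr' : ∀ s ∈ R, s * (r : Ω) = r * s := fun s hs => congrArg Subtype.val (hr ⟨s, hs⟩)
        have hrT : (r : Ω) ∈ T := by
          by_contra h3
          apply hyz₁
          rw [g.act_eq hyS hyT (hRS r.2) h3 hz₁, ← hr' z₁ (hZR hz₁), mul_inv_cancel_right]
        have hyr : y * r * y⁻¹ = r := by rw [hr' y hyR, mul_inv_cancel_right]
        refine g.mem_ZS.2 ⟨?_, hyr⟩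
        by_contra hrZ
        obtain ⟨v, hv, z, hz, hvz⟩ := g.exists_vv hyS hyT (hRD r r.2 hrT)
        have sv := (g.sw y hyS hyT).a1 v hv
        have hvW : v ∉ W := by
          intro h3
          apply hrZ
          rw [hvz]
          exact (V ⊓ W).mul_mem ((V ⊓ W).mul_mem ⟨hv, h3⟩ (g.normZ hyS ⟨hv, h3⟩)) hz
        obtain ⟨σ, a, ha, -, ⟨m, hm⟩, hlam, -⟩ := g.ne_case hD hyS hyT hne
        have hk : mu v ≠ 0 := fun h => hvW ((hc.mu_zero v hv).1 h)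
        have hσk : σ (mu v) ≠ 0 := (map_ne_zero σ).2 hk
        obtain ⟨u, hu, hum⟩ := hc.mu_surj (mu v * m)
        have su := (g.sw y hyS hyT).a1 u hu
        have h3 := hr' _ (hDR (g.vv_mem hyS hyT hu))
        rw [hvz] at h3
        have h4 : u * (y * u * y⁻¹) * (v * (y * v * y⁻¹)) = v * (y * v * y⁻¹) * (u * (y * u * y⁻¹)) := by
          have h5 := g.cenZ hz (g.vv_mem hyS hyT hu).1
          apply mul_right_cancel (b := z)
          calc u * (y * u * y⁻¹) * (v * (y * v * y⁻¹)) * z = u * (y * u * y⁻¹) * (v * (y * v * y⁻¹) * z) := by group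
            _ = v * (y * v * y⁻¹) * z * (u * (y * u * y⁻¹)) := h3
            _ = v * (y * v * y⁻¹) * (z * (u * (y * u * y⁻¹))) := by group
            _ = v * (y * v * y⁻¹) * ((u * (y * u * y⁻¹)) * z) := by rw [h5]
            _ = _ := by group
        rw [hc.comm_iff hu su hv sv] at h4
        have h5 := congrArg zet h4
        rw [hc.zet_com _ hu _ sv, hc.zet_com _ hv _ su, hlam v hv, hlam u hu, hum, map_mul] at h5
        apply hm
        have h6 : mu v * a * σ (mu v) * σ m = mu v * a * σ (mu v) * m := by linear_combination -h5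
        exact mul_left_cancel₀ (mul_ne_zero (mul_ne_zero hk ha) hσk) h6
      · intro hr s
        exact Subtype.ext (g.ZS_cent hyS hyT hr (hRS s.2))
    have e : Subgroup.center R = (g.ZS y).subgroupOf R := by
      ext r
      rw [hcen, Subgroup.mem_subgroupOf]
    rw [e, Nat.card_congr (Subgroup.subgroupOfEquivOfLe hZSR).toEquiv, hZS_card]
  · rw [← hy]
    exact hyT

end Cfsg.Agent.H456.HM
end

private theorem dce_bd570f148bca : _root_.True := by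
  try have : _root_.True := by simp only [_root_.Cfsg.Agent.H456.HM.Geo.ZS.congr_simp]
  try have : _root_.True := by simp only [_root_.Cfsg.Agent.H456.HM.Geo.Del.congr_simp]
  exact _root_.True.intro
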